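import Groth.Prelude.Def_WeilCoh
import Groth.Agent.DimLib.Components
import Mathlib.AlgebraicGeometry.Morphisms.ClosedImmersion
import Mathlib.AlgebraicGeometry.Morphisms.Separated
import Mathlib.AlgebraicGeometry.ProjectiveSpectrum.Proper
import Mathlib.RingTheory.IntegralClosure.IsIntegralClosure.Basic
import Mathlib.RingTheory.RingHom.StandardSmooth
import Mathlib.RingTheory.LocalProperties.Reduced
import Groth.Agent.HenselLib.EtaleReduced

/-!
# Basic geometry of the objects of a Weil cohomology theory
-/

universe u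

open CategoryTheory CategoryTheory.Limits AlgebraicGeometry TopologicalSpace

namespace Groth.Agent.WeilLib

open WeilCoh Groth.Agent.DimLib

variable {k : Type u} [Field k]

theorem smooth (X : Var k) : Smooth X.obj.hom := X.property.1

instance (X : Var k) : Smooth X.obj.hom := X.property.1

instance (X : Var k) : IrreducibleSpace ↥X.obj.left := X.property.2.2

instance isSeparated_toBase (n : ℕ) (S : Scheme.{u}) : IsSeparated (CohB1.ProjSpaceOver.toBase n S) := by
  have : IsSeparated (CohB1.ProjSpace.toSpec n (ULift.{u} ℤ)) := by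
    unfold CohB1.ProjSpace.toSpec
    have : IsSeparated (Proj.toSpecZero (CohB1.polyGrading.{u} n (ULift.{u} ℤ))) :=
      Proj.isSeparated _
    exact MorphismProperty.IsStableUnderComposition.comp_mem (P := @IsSeparated) _ _ this inferInstance
  unfold CohB1.ProjSpaceOver.toBase
  exact inferInstanceAs (IsSeparated (pullback.snd (CohB1.ProjSpace.toSpec n (ULift.{u} ℤ)) (specULiftZIsTerminal.from S)))

instance (X : Var k) : IsSeparated X.obj.hom := by
  obtain ⟨n, i, hi, e⟩ := X.property.2.1
  rw [← e]; infer_instance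

theorem isClosedImmersion_section {X Y : Var k} (j : X ⟶ Y) (p : Y ⟶ X) (h : j ≫ p = 𝟙 X) :
    IsClosedImmersion (sm j) := by
  have hc : sm j ≫ sm p = 𝟙 _ := congrArg (fun f => f.hom.left) h
  have : IsSeparated (sm p) := by
    have : IsSeparated (sm p ≫ X.obj.hom) := by rw [Over.w p.hom]; infer_instance
    exact IsSeparated.of_comp (sm p) X.obj.hom
  have : IsClosedImmersion (sm j ≫ sm p) := by rw [hc]; infer_instance
  exact IsClosedImmersion.of_comp (sm j) (sm p)

/-- A scheme smooth over a field is reduced. -/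
theorem isReduced_of_smooth {X : Scheme.{u}} (f : X ⟶ Spec (CommRingCat.of k)) [Smooth f] : IsReduced X := by
  have : ∀ x : X, _root_.IsReduced (X.presheaf.stalk x) := by
    intro x
    obtain ⟨U, hU, V, hV, hxV, e, h⟩ := Smooth.exists_isStandardSmooth f x
    have hUt : U = ⊤ := by
      ext p
      exact ⟨fun _ => trivial, fun _ => (Subsingleton.elim (f x) p) ▸ e hxV⟩
    subst hUt
    obtain ⟨n, g, -, hg⟩ := h.exists_etale_mvPolynomial
    have : IsDomain Γ(Spec (CommRingCat.of k), ⊤) :=
      (Scheme.ΓSpecIso (CommRingCat.of k)).commRingCatIsoToRingEquiv.toMulEquiv.isDomain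
    let := g.toAlgebra
    have : Algebra.Etale (MvPolynomial (Fin n) Γ(Spec (CommRingCat.of k), ⊤)) Γ(X, V) := hg
    have : _root_.IsReduced Γ(X, V) :=
      HenselLib.isReduced_of_etale (MvPolynomial (Fin n) Γ(Spec (CommRingCat.of k), ⊤)) Γ(X, V)
    let := TopCat.Presheaf.algebra_section_stalk X.presheaf ⟨x, hxV⟩
    have := hV.isLocalization_stalk ⟨x, hxV⟩
    exact isReduced_localizationPreserves (hV.primeIdealOf ⟨x, hxV⟩).asIdeal.primeCompl _ ‹_›
  exact isReduced_of_isReduced_stalk X

theorem isReduced_var (X : Var k) : IsReduced X.obj.left := isReduced_of_smooth X.obj.hom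

theorem isIntegral_var (X : Var k) : IsIntegral X.obj.left :=
  have := isReduced_var X
  isIntegral_of_irreducibleSpace_of_isReduced X.obj.left

/-- The transcendence degree of the residue field over `k`. -/
noncomputable def pd (X : Var k) (x : X.obj.left) : ℕ := ptDim X.obj.hom x

theorem topologicalKrullDim_var (X : Var k) :
    topologicalKrullDim X.obj.left = (pd X (genericPoint X.obj.left) : WithBot ℕ∞) :=
  topologicalKrullDim_eq_ptDim_genericPoint X.obj.hom

theorem dim_eq (X : Var k) : WeilCoh.dim X.obj.left = pd X (genericPoint X.obj.left) := by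
  change WeilCoh.natDim _ = _
  rw [WeilCoh.natDim, topologicalKrullDim_var]; rfl

theorem pdim_eq (X : Var k) (x : X.obj.left) : WeilCoh.pdim X.obj.left x = pd X x := by
  rw [WeilCoh.pdim, WeilCoh.natDim,
    topologicalKrullDim_eq_ptDim_of_isGenericPoint X.obj.hom (η := x) isGenericPoint_closure]; rfl

theorem pdim_le_dim (X : Var k) (x : X.obj.left) : WeilCoh.pdim X.obj.left x ≤ WeilCoh.dim X.obj.left := by
  rw [pdim_eq, dim_eq]
  by_cases h : genericPoint X.obj.left = x
  · rw [h]
  · exact (ptDim_lt_of_specializes X.obj.hom (genericPoint_specializes x) h).le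

theorem codim_add_pdim (X : Var k) (x : X.obj.left) :
    WeilCoh.codim X.obj.left x + WeilCoh.pdim X.obj.left x = WeilCoh.dim X.obj.left :=
  Nat.sub_add_cancel (pdim_le_dim X x)

theorem pdim_genericPoint (X : Var k) :
    WeilCoh.pdim X.obj.left (genericPoint X.obj.left) = WeilCoh.dim X.obj.left := by
  rw [pdim_eq, dim_eq]

theorem codim_genericPoint (X : Var k) : WeilCoh.codim X.obj.left (genericPoint X.obj.left) = 0 := by
  rw [WeilCoh.codim, pdim_genericPoint, Nat.sub_self]

theorem pdim_eq_zero_iff (X : Var k) (x : X.obj.left) :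
    WeilCoh.pdim X.obj.left x = 0 ↔ IsClosed ({x} : Set X.obj.left) := by
  rw [pdim_eq]; exact ptDim_eq_zero_iff _ x

theorem eq_genericPoint_of_pdim_eq (X : Var k) (x : X.obj.left)
    (h : WeilCoh.pdim X.obj.left x = WeilCoh.dim X.obj.left) : x = genericPoint X.obj.left := by
  by_contra hne
  rw [pdim_eq, dim_eq] at h
  exact (ptDim_lt_of_specializes X.obj.hom (genericPoint_specializes x) (Ne.symm hne)).ne h

theorem exists_closedPoint (X : Var k) : ∃ x : X.obj.left, IsClosed ({x} : Set X.obj.left) := by
  obtain ⟨x, -, hx⟩ := exists_isClosed_singleton_mem X.obj.hom (S := (Set.univ : Set X.obj.left))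
    ⟨genericPoint X.obj.left, trivial⟩ isOpen_univ.isLocallyClosed
  exact ⟨x, hx⟩

theorem pd_map {X Y : Var k} (f : X ⟶ Y) (x : X.obj.left) :
    pd X x = pd Y (sm f x) + trdegHom ((sm f).residueFieldMap x).hom := by
  have : LocallyOfFiniteType (sm f ≫ Y.obj.hom) := by rw [Over.w f.hom]; infer_instance
  rw [pd, pd, ← ptDim_comp Y.obj.hom (sm f) x, Over.w f.hom]

theorem trdegHom_eq_zero_of_finite {R S : Type u} [Field R] [Field S] (φ : R →+* S)
    (h : φ.Finite) : trdegHom φ = 0 := by
  let := φ.toAlgebra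
  have : Module.Finite R S := h
  have : Algebra.IsAlgebraic R S := inferInstance
  show (Algebra.trdeg R S).toNat = 0
  rw [trdeg_eq_zero, map_zero]

theorem pdim_map_of_residueDegree {X Y : Var k} (f : X ⟶ Y) (x : X.obj.left)
    (h : (sm f).residueDegree x ≠ 0) :
    WeilCoh.pdim Y.obj.left (sm f x) = WeilCoh.pdim X.obj.left x := by
  rw [pdim_eq, pdim_eq, pd_map f x, trdegHom_eq_zero_of_finite, add_zero]
  let := ((sm f).residueFieldMap x).hom.toAlgebra
  exact Module.finite_of_finrank_pos (Nat.pos_of_ne_zero h)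

theorem residueDegree_eq_one_of_bijective {X Y : Scheme.{u}} (f : X ⟶ Y) (x : X)
    (h : Function.Bijective (f.residueFieldMap x)) : f.residueDegree x = 1 := by
  let := (f.residueFieldMap x).hom.toAlgebra
  exact ((Algebra.finrank_eq_one_iff_bijective_algebraMap).2 h :)

theorem residueDegree_preimmersion {X Y : Scheme.{u}} (f : X ⟶ Y) [IsPreimmersion f] (x : X) :
    f.residueDegree x = 1 :=
  residueDegree_eq_one_of_bijective f x
    ((ConcreteCategory.isIso_iff_bijective _).1 (isIso_residueFieldMap_of_isPreimmersion f x))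

theorem baseRingHom_bijective [IsAlgClosed k] (X : Var k) {x : X.obj.left}
    (hx : IsClosed ({x} : Set X.obj.left)) : Function.Bijective (baseRingHom X.obj.hom x) := by
  let := (baseRingHom X.obj.hom x).toAlgebra
  refine ⟨RingHom.injective _, ?_⟩
  have h0 : Algebra.trdeg k (X.obj.left.residueField x) = 0 := by
    have h1 := (ptDim_eq_zero_iff X.obj.hom x).2 hx
    exact (Cardinal.toNat_eq_zero.1 h1).resolve_right (not_le.2 (trdeg_baseRingHom_lt X.obj.hom x))
  have : Algebra.IsAlgebraic k (X.obj.left.residueField x) := trdeg_eq_zero_iff.1 h0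
  exact IsAlgClosed.algebraMap_bijective_of_isIntegral.2

theorem residueDegree_hom_of_isClosed [IsAlgClosed k] (X : Var k) {x : X.obj.left}
    (hx : IsClosed ({x} : Set X.obj.left)) : X.obj.hom.residueDegree x = 1 := by
  refine residueDegree_eq_one_of_bijective _ _ ⟨RingHom.injective _, fun y => ?_⟩
  obtain ⟨c, hc⟩ := (baseRingHom_bijective X hx).2 y
  have h : baseRingHom X.obj.hom x = (X.obj.hom.residueFieldMap x).hom.comp
      (baseRingHom (𝟙 (Spec (CommRingCat.of k))) (X.obj.hom x)) := by
    rw [← baseRingHom_comp, Category.comp_id]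
  rw [h, RingHom.comp_apply] at hc
  exact ⟨_, hc⟩

/-- The point, as an object. -/
noncomputable def pt (X : Var k) [IsAlgClosed k] : Var k :=
  ⟨Over.mk (𝟙 (Spec (CommRingCat.of k))), by
    obtain ⟨x, hx⟩ := exists_closedPoint X
    obtain ⟨n, i, hi, e⟩ := X.property.2.1
    let e' := (RingEquiv.ofBijective _ (baseRingHom_bijective X hx)).toCommRingCatIso
    let s : Spec (CommRingCat.of k) ⟶ CohB1.ProjSpaceOver n (Spec (CommRingCat.of k)) :=
      Spec.map e'.inv ≫ X.obj.left.fromSpecResidueField x ≫ i
    have hs : s ≫ CohB1.ProjSpaceOver.toBase n (Spec (CommRingCat.of k)) = 𝟙 _ := by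
      simp only [s, Category.assoc]
      rw [e, ← specMap_baseRingHom, ← Spec.map_comp]
      exact (congrArg Spec.map e'.hom_inv_id).trans (Spec.map_id _)
    refine ⟨inferInstanceAs (Smooth (𝟙 (Spec (CommRingCat.of k)))), ⟨n, s, ?_, hs⟩,
      inferInstanceAs (IrreducibleSpace (PrimeSpectrum k))⟩
    have : IsClosedImmersion (s ≫ CohB1.ProjSpaceOver.toBase n _) := by rw [hs]; infer_instance
    exact IsClosedImmersion.of_comp s (CohB1.ProjSpaceOver.toBase n _)⟩

variable [IsAlgClosed k]

theorem dim_pt (X : Var k) : WeilCoh.dim (pt X).obj.left = 0 := by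
  change WeilCoh.natDim (PrimeSpectrum k) = 0
  rw [WeilCoh.natDim, PrimeSpectrum.topologicalKrullDim_eq_ringKrullDim, ringKrullDim_eq_zero_of_field]; rfl

/-- The structure morphism to the point. -/
noncomputable def toPt (X : Var k) : X ⟶ pt X :=
  ObjectProperty.homMk (Over.homMk X.obj.hom (Category.comp_id _))

theorem sm_toPt (X : Var k) : sm (toPt X) = X.obj.hom := rfl

end Groth.Agent.WeilLib
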