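import Mathlib.LinearAlgebra.Matrix.Charpoly.Coeff
import Mathlib.LinearAlgebra.Matrix.Adjugate
import Mathlib.RingTheory.PowerSeries.Derivative
import Mathlib.RingTheory.PowerSeries.Inverse
import Mathlib.RingTheory.PowerSeries.Exp

/-!
# Logarithmic derivatives of reversed characteristic polynomials
-/

universe u v

open PowerSeries

namespace Groth.Agent.WeilLib

theorem derivation_finset_prod {R A : Type*} [CommRing R] [CommRing A] [Algebra R A] (D : Derivation R A A)
    {ι : Type*} [DecidableEq ι] (s : Finset ι) (f : ι → A) :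
    D (∏ i ∈ s, f i) = ∑ i ∈ s, (∏ j ∈ s.erase i, f j) * D (f i) := by
  induction s using Finset.induction with
  | empty => simp
  | insert a s ha ih =>
    rw [Finset.prod_insert ha, D.leibniz, smul_eq_mul, smul_eq_mul, ih, Finset.sum_insert ha, Finset.erase_insert ha,
      add_comm, Finset.mul_sum]
    congr 1
    refine Finset.sum_congr rfl fun i hi => ?_
    rw [Finset.erase_insert_of_ne (fun h : a = i => ha (h ▸ hi)), Finset.prod_insert (fun h => ha (Finset.mem_of_mem_erase h)),
      mul_assoc]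

/-- Jacobi's formula. -/
theorem derivation_det {R A : Type*} [CommRing R] [CommRing A] [Algebra R A] (D : Derivation R A A)
    {n : Type*} [Fintype n] [DecidableEq n] (M : Matrix n n A) :
    D M.det = (M.map D * M.adjugate).trace := by
  have h1 : D M.det = ∑ i, (M.updateCol i fun r => D (M r i)).det := by
    simp only [Matrix.det_apply']
    rw [map_sum, Finset.sum_comm]
    refine Finset.sum_congr rfl fun σ _ => ?_
    rw [D.leibniz, D.map_intCast, smul_zero, add_zero, smul_eq_mul, derivation_finset_prod, Finset.mul_sum]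
    refine Finset.sum_congr rfl fun i _ => ?_
    congr 1
    rw [← Finset.mul_prod_erase Finset.univ _ (Finset.mem_univ i), Matrix.updateCol_self, mul_comm]
    congr 1
    exact Finset.prod_congr rfl fun j hj => (Matrix.updateCol_ne (Finset.ne_of_mem_erase hj)).symm
  rw [h1, Matrix.trace_mul_comm, Matrix.trace]
  refine Finset.sum_congr rfl fun i _ => ?_
  rw [Matrix.diag_apply, Matrix.mul_apply, ← Matrix.cramer_apply, Matrix.cramer_eq_adjugate_mulVec]
  rfl

variable {K : Type u} [Field K]

/-- `Σ tr(M ^ (m + 1)) t ^ m`. -/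
noncomputable def trSeries {n : Type v} [Fintype n] [DecidableEq n] (M : Matrix n n K) : K⟦X⟧ :=
  PowerSeries.mk fun m => Matrix.trace (M ^ (m + 1))

theorem derivative_charpolyRev {n : Type v} [Fintype n] [DecidableEq n] (M : Matrix n n K) :
    d⁄dX K (M.charpolyRev : K⟦X⟧) = -(trSeries M) * (M.charpolyRev : K⟦X⟧) := by
  let N : Matrix n n K⟦X⟧ := 1 - (PowerSeries.X : K⟦X⟧) • M.map PowerSeries.C
  let S : Matrix n n K⟦X⟧ := Matrix.of fun i j => PowerSeries.mk fun m => (M ^ m) i j
  have hdet : (M.charpolyRev : K⟦X⟧) = N.det := by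
    rw [Matrix.charpolyRev, ← Polynomial.coeToPowerSeries.ringHom_apply, RingHom.map_det]
    congr 1
    ext1 i j
    by_cases h : i = j <;> simp [N, h, PowerSeries.X_mul]
  have hMS : ∀ i j m, PowerSeries.coeff m ((M.map PowerSeries.C * S) i j) = (M ^ (m + 1)) i j := fun i j m => by
    rw [Matrix.mul_apply, map_sum, pow_succ', Matrix.mul_apply]
    refine Finset.sum_congr rfl fun l _ => ?_
    simp [S]
  have hNS : N * S = 1 := by
    rw [sub_mul, one_mul, Matrix.smul_mul]
    ext1 i j
    refine PowerSeries.ext fun m => ?_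
    rcases m with _ | m
    · by_cases h : i = j <;> simp [S, h, Matrix.one_apply]
    · simp only [Matrix.sub_apply, Matrix.smul_apply, smul_eq_mul, map_sub, PowerSeries.coeff_succ_X_mul, hMS]
      by_cases h : i = j <;> simp [S, h, Matrix.one_apply]
  have hadj : N.adjugate = N.det • S := by
    calc N.adjugate = N.adjugate * (N * S) := by rw [hNS, mul_one]
      _ = N.det • S := by rw [← mul_assoc, Matrix.adjugate_mul, Matrix.smul_mul, one_mul]
  have hDN : N.map (d⁄dX K) = -(M.map PowerSeries.C) := by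
    ext1 i j
    by_cases h : i = j <;> simp [N, h]
  rw [hdet, derivation_det, hadj, hDN, Matrix.mul_smul, Matrix.trace_smul, smul_eq_mul, neg_mul (M.map PowerSeries.C),
    Matrix.trace_neg, mul_neg, mul_comm, neg_mul]
  congr 2
  refine PowerSeries.ext fun m => ?_
  rw [trSeries, PowerSeries.coeff_mk, Matrix.trace, map_sum]
  exact Finset.sum_congr rfl fun i _ => hMS i i m

theorem constantCoeff_charpolyRev {n : Type v} [Fintype n] [DecidableEq n] (M : Matrix n n K) :
    PowerSeries.constantCoeff (M.charpolyRev : K⟦X⟧) = 1 := by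
  rw [← PowerSeries.coeff_zero_eq_constantCoeff_apply, Polynomial.coeff_coe]
  rw [Polynomial.coeff_zero_eq_eval_zero, Matrix.eval_charpolyRev]

theorem derivative_prod {ι : Type*} (s : Finset ι) (P S : ι → K⟦X⟧) (h : ∀ i ∈ s, d⁄dX K (P i) = -(S i) * P i) :
    d⁄dX K (∏ i ∈ s, P i) = -(∑ i ∈ s, S i) * ∏ i ∈ s, P i := by
  classical
  rw [derivation_finset_prod, neg_mul, Finset.sum_mul, ← Finset.sum_neg_distrib]
  refine Finset.sum_congr rfl fun i hi => ?_
  rw [h i hi, ← Finset.mul_prod_erase s P hi]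
  ring

theorem eq_of_derivative_eq [CharZero K] {W P S : K⟦X⟧} (hW : d⁄dX K W = -S * W) (hP : d⁄dX K P = -S * P)
    (h1 : PowerSeries.constantCoeff W = 1) (h2 : PowerSeries.constantCoeff P = 1) : W = P := by
  have hne : PowerSeries.constantCoeff P ≠ 0 := by rw [h2]; exact one_ne_zero
  have hD : d⁄dX K (W * P⁻¹) = d⁄dX K (1 : K⟦X⟧) := by
    rw [Derivation.leibniz, smul_eq_mul, smul_eq_mul, derivative_inv', hP, hW, Derivation.map_one_eq_zero]
    linear_combination (W * P⁻¹ * S) * PowerSeries.mul_inv_cancel P hne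
  have h := derivative.ext hD (by simp [h1, h2])
  calc W = W * P⁻¹ * P := by rw [mul_assoc, PowerSeries.inv_mul_cancel P hne, mul_one]
    _ = P := by rw [h, one_mul]

theorem derivative_exp_subst (L : ℚ⟦X⟧) (h0 : PowerSeries.constantCoeff L = 0) :
    d⁄dX ℚ ((PowerSeries.exp ℚ).subst L) = d⁄dX ℚ L * (PowerSeries.exp ℚ).subst L ∧
      PowerSeries.constantCoeff ((PowerSeries.exp ℚ).subst L) = 1 := by
  have hL : HasSubst L := HasSubst.of_constantCoeff_zero' h0
  refine ⟨by rw [derivative_subst hL, derivative_exp, mul_comm], ?_⟩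
  rw [← PowerSeries.coeff_zero_eq_constantCoeff_apply, coeff_subst' hL, finsum_eq_single _ 0]
  · simp
  · intro d hd
    rw [PowerSeries.coeff_zero_eq_constantCoeff_apply, map_pow, h0, zero_pow hd, smul_zero]

theorem derivative_map {R S : Type*} [CommRing R] [CommRing S] (φ : R →+* S) (f : R⟦X⟧) :
    d⁄dX S (PowerSeries.map φ f) = PowerSeries.map φ (d⁄dX R f) := by
  ext n; simp [coeff_derivative]

/-- Rationality descends along `ℚ → K`. -/
theorem exists_rat_polynomial [CharZero K] (Z : ℚ⟦X⟧) (P Q : Polynomial K) (hQ : Q ≠ 0)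
    (h : PowerSeries.map (algebraMap ℚ K) Z * (Q : K⟦X⟧) = (P : K⟦X⟧)) :
    ∃ P' Q' : Polynomial ℚ, Q' ≠ 0 ∧ Z * (Q' : ℚ⟦X⟧) = (P' : ℚ⟦X⟧) := by
  classical
  obtain ⟨d, hd⟩ : ∃ d, Q.coeff d ≠ 0 := by
    by_contra hc
    exact hQ (Polynomial.ext fun n => by_contra fun hn => hc ⟨n, by simpa using hn⟩)
  obtain ⟨g, hg⟩ := (LinearMap.toSpanSingleton ℚ K (Q.coeff d)).exists_leftInverse_of_injective
    (LinearMap.ker_toSpanSingleton (R := ℚ) hd)
  let down : Polynomial K → Polynomial ℚ := fun p =>
    ∑ i ∈ Finset.range (p.natDegree + 1), Polynomial.monomial i (g (p.coeff i))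
  have hdown : ∀ p n, (down p).coeff n = g (p.coeff n) := fun p n => by
    simp only [down, Polynomial.finsetSum_coeff, Polynomial.coeff_monomial]
    rw [Finset.sum_ite_eq']
    split_ifs with hn
    · rfl
    · rw [Polynomial.coeff_eq_zero_of_natDegree_lt (by simp only [Finset.mem_range] at hn; omega), map_zero]
  refine ⟨down P, down Q, fun h0 => ?_, PowerSeries.ext fun n => ?_⟩
  · have h1 := hdown Q d
    rw [h0, Polynomial.coeff_zero] at h1
    have h2 := LinearMap.congr_fun hg 1
    simp [← h1] at h2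
  · have h1 := congrArg (fun f => g (PowerSeries.coeff n f)) h
    simp only [PowerSeries.coeff_mul, PowerSeries.coeff_map, Polynomial.coeff_coe, map_sum] at h1
    rw [PowerSeries.coeff_mul, Polynomial.coeff_coe, hdown, ← h1]
    refine Finset.sum_congr rfl fun x _ => ?_
    rw [Polynomial.coeff_coe, hdown, ← Algebra.smul_def, map_smul, smul_eq_mul]

end Groth.Agent.WeilLib
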