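import Groth.Agent.WeilLib.Classes
import Groth.Prelude.Def_ChowOps

/-!
# Classes of cycles: push-forwards and degrees
-/

universe u v

open CategoryTheory CategoryTheory.Limits AlgebraicGeometry TopologicalSpace

namespace Groth.Agent.WeilLib

open WeilCoh Groth.Agent.DimLib

variable {k : Type u} [Field k]

set_option backward.isDefEq.respectTransparency.types false in
instance isProper_toBase (n : ℕ) (S : Scheme.{u}) : IsProper (CohB1.ProjSpaceOver.toBase n S) := by
  have : IsScalarTower (ULift.{u} ℤ) ((CohB1.polyGrading.{u} n (ULift.{u} ℤ)) 0) (MvPolynomial (Fin (n + 1)) (ULift.{u} ℤ)) :=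
    IsScalarTower.of_algebraMap_eq (R := ULift.{u} ℤ) (S := (CohB1.polyGrading.{u} n (ULift.{u} ℤ)) 0)
      (A := MvPolynomial (Fin (n + 1)) (ULift.{u} ℤ)) fun r => rfl
  have : Algebra.FiniteType ((CohB1.polyGrading.{u} n (ULift.{u} ℤ)) 0) (MvPolynomial (Fin (n + 1)) (ULift.{u} ℤ)) :=
    Algebra.FiniteType.of_restrictScalars_finiteType (ULift.{u} ℤ) ((CohB1.polyGrading.{u} n (ULift.{u} ℤ)) 0) _
  have hbij : Function.Bijective (algebraMap (ULift.{u} ℤ) ((CohB1.polyGrading.{u} n (ULift.{u} ℤ)) 0)) := by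
    refine ⟨fun a b h => MvPolynomial.C_injective _ (ULift.{u} ℤ) (congrArg Subtype.val h),
      fun p => ⟨MvPolynomial.coeff 0 p.1, Subtype.ext ?_⟩⟩
    show MvPolynomial.C (MvPolynomial.coeff 0 p.1) = p.1
    exact (MvPolynomial.totalDegree_eq_zero_iff_eq_C.mp
      (((MvPolynomial.totalDegree_zero_iff_isHomogeneous _).2 ((MvPolynomial.mem_homogeneousSubmodule 0 p.1).mp p.2)))).symm
  have : IsIso (CommRingCat.ofHom (algebraMap (ULift.{u} ℤ) ((CohB1.polyGrading.{u} n (ULift.{u} ℤ)) 0))) :=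
    (ConcreteCategory.isIso_iff_bijective _).mpr hbij
  have : IsProper (CohB1.ProjSpace.toSpec n (ULift.{u} ℤ)) :=
    show IsProper (Proj.toSpecZero (CohB1.polyGrading.{u} n (ULift.{u} ℤ)) ≫ Spec.map (CommRingCat.ofHom
      (algebraMap (ULift.{u} ℤ) ((CohB1.polyGrading n (ULift.{u} ℤ)) 0)))) from inferInstance
  exact inferInstanceAs (IsProper (pullback.snd (CohB1.ProjSpace.toSpec n (ULift.{u} ℤ)) (specULiftZIsTerminal.from S)))

instance isProper_var (X : Var k) : IsProper X.obj.hom := by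
  obtain ⟨n, i, hi, e⟩ := X.property.2.1
  rw [← e]; infer_instance

instance compactSpace_var (X : Var k) : CompactSpace ↥X.obj.left :=
  QuasiCompact.compactSpace_of_compactSpace X.obj.hom

theorem finite_support (X : Var k) (α : AlgebraicCycle X.obj.left ℤ) :
    (Function.support (α : X.obj.left → ℤ)).Finite := by
  simpa using α.locallyFiniteSupport.finite_inter_support_of_isCompact (W := Set.univ) isCompact_univ

theorem ptDim_id (z : ↥(Spec (CommRingCat.of k))) : ptDim (𝟙 (Spec (CommRingCat.of k))) z = 0 :=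
  (ptDim_eq_zero_iff _ z).2 (by
    have : Subsingleton ↥(Spec (CommRingCat.of k)) := inferInstanceAs (Subsingleton (PrimeSpectrum k))
    rw [Set.eq_univ_of_forall (s := ({z} : Set ↥(Spec (CommRingCat.of k)))) (fun w => Subsingleton.elim _ _)]
    exact isClosed_univ)

theorem delta_eq (X : Var k) (δ : ↥X.obj.left → ℤ) (hδ : Cyc.DeltaCompat X.obj.hom δ (fun _ => 0))
    (x : X.obj.left) : δ x = (WeilCoh.pdim X.obj.left x : ℤ) := by
  obtain ⟨n, hn, h⟩ := hδ x
  rw [zero_add] at h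
  rw [h, pdim_eq, pd]
  have e := ptDim_comp (𝟙 (Spec (CommRingCat.of k))) X.obj.hom x
  rw [ptDim_id, zero_add] at e
  rw [← Category.comp_id X.obj.hom, e, trdegHom]
  rw [hn]; simp

variable [IsAlgClosed k] {K : Type v} [Field K] [CharZero K] (T : Theory k K)

theorem clCyc_eq_sum (X : Var k) (α : AlgebraicCycle X.obj.left ℤ) (s : Finset X.obj.left)
    (hs : ∀ ξ, α ξ ≠ 0 → ξ ∈ s) : T.clCyc X α = ∑ ξ ∈ s, ((α ξ : ℤ) : K) • T.cl X ξ := by
  refine finsum_eq_sum_of_support_subset _ fun ξ hξ => hs ξ fun h => hξ ?_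
  simp [h]

theorem tr_mapCoeff_mul {X Y : Var k} (f : X ⟶ Y) (δX : ↥X.obj.left → ℤ)
    (hδX : Cyc.DeltaCompat X.obj.hom δX (fun _ => 0)) (δY : ↥Y.obj.left → ℤ)
    (hδY : Cyc.DeltaCompat Y.obj.hom δY (fun _ => 0)) (x : X.obj.left) (b : T.H Y) :
    (AlgebraicCycle.mapCoeff (sm f) δX δY x : K) * T.tr Y (T.cl Y (sm f x) * b) =
      T.tr X (T.cl X x * T.pull f b) := by
  have hw : (AlgebraicCycle.mapCoeff (sm f) δX δY x : K) = ((sm f).residueDegree x : K) := by
    unfold AlgebraicCycle.mapCoeff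
    split_ifs with h
    · rfl
    · rw [delta_eq X δX hδX, delta_eq Y δY hδY] at h
      rw [Nat.cast_zero]
      symm
      by_contra hne
      exact h (by rw [pdim_map_of_residueDegree f x (by simpa using hne)])
  rw [hw]
  refine homogeneous_induction T (motive := fun b => ((sm f).residueDegree x : K) * T.tr Y (T.cl Y (sm f x) * b) =
      T.tr X (T.cl X x * T.pull f b)) b (by simp) (fun a b ha hb => by simp [mul_add, ha, hb]) fun i a ha => ?_
  by_cases hi : i = 2 * (WeilCoh.pdim X.obj.left x : ℤ)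
  · rw [T.cl_push f x a (hi ▸ ha)]
  · have hcX := codim_add_pdim X x
    rw [tr_mul_eq_zero_of_ne T (T.cl_mem X _) (T.pull_mem f _ _ ha) (by omega)]
    by_cases hd : (sm f).residueDegree x = 0
    · rw [hd, Nat.cast_zero, zero_mul]
    · have hp := pdim_map_of_residueDegree f x hd
      have hcY := codim_add_pdim Y (sm f x)
      rw [tr_mul_eq_zero_of_ne T (T.cl_mem Y _) ha (by omega), mul_zero]

theorem tr_clCyc_map {X Y : Var k} (f : X ⟶ Y) [QuasiCompact (sm f)] (δX : ↥X.obj.left → ℤ)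
    (hδX : Cyc.DeltaCompat X.obj.hom δX (fun _ => 0)) (δY : ↥Y.obj.left → ℤ)
    (hδY : Cyc.DeltaCompat Y.obj.hom δY (fun _ => 0)) (α : AlgebraicCycle X.obj.left ℤ) (b : T.H Y) :
    T.tr Y (T.clCyc Y (AlgebraicCycle.map (sm f) δX δY α) * b) = T.tr X (T.clCyc X α * T.pull f b) := by
  classical
  let s := (finite_support X α).toFinset
  have hs : ∀ ξ, α ξ ≠ 0 → ξ ∈ s := fun ξ h => (Set.Finite.mem_toFinset _).2 h
  let g : X.obj.left → Y.obj.left := fun x => sm f x
  let w : X.obj.left → ℕ := fun x => AlgebraicCycle.mapCoeff (sm f) δX δY x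
  have hmap : ∀ y : Y.obj.left, AlgebraicCycle.map (sm f) δX δY α y = ∑ x ∈ s with g x = y, α x * (w x : ℤ) := by
    intro y
    refine (Function.locallyFinsupp.map_apply (R := ℤ) _ _ α y).trans ?_
    refine finsum_mem_eq_sum_of_inter_support_eq _ (Set.ext fun x => ?_)
    simp only [Set.mem_inter_iff, Finset.coe_filter, Set.mem_ofPred_eq]
    constructor
    · rintro ⟨h1, h2⟩
      exact ⟨⟨hs x (left_ne_zero_of_mul h2), h1⟩, h2⟩
    · rintro ⟨⟨-, h1⟩, h2⟩
      exact ⟨h1, h2⟩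
  rw [clCyc_eq_sum T Y _ (s.image g) (fun y hy => ?_), clCyc_eq_sum T X α s hs, Finset.sum_mul,
    Finset.sum_mul, map_sum, map_sum,
    ← Finset.sum_fiberwise_of_maps_to (t := s.image g) (fun x hx => Finset.mem_image_of_mem g hx)]
  · refine Finset.sum_congr rfl fun y _ => ?_
    rw [hmap, Int.cast_sum, Finset.sum_smul, Finset.sum_mul, map_sum]
    refine Finset.sum_congr rfl fun x hx => ?_
    obtain rfl : g x = y := (Finset.mem_filter.1 hx).2
    rw [smul_mul_assoc, map_smul, smul_mul_assoc, map_smul, smul_eq_mul, smul_eq_mul,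
      ← tr_mapCoeff_mul T f δX hδX δY hδY x b, Int.cast_mul, Int.cast_natCast, mul_assoc]
  · rw [hmap] at hy
    obtain ⟨x, hx, -⟩ := Finset.exists_ne_zero_of_sum_ne_zero hy
    rw [Finset.mem_filter] at hx
    exact Finset.mem_image.2 ⟨x, hx.1, hx.2⟩

theorem deg_eq_tr_clCyc (X : Var k) [QuasiCompact X.obj.hom] (δ : ↥X.obj.left → ℤ)
    (hδ : Cyc.DeltaCompat X.obj.hom δ (fun _ => 0)) (α : AlgebraicCycle X.obj.left ℤ)
    (hα : α ∈ Cyc.Zk X.obj.left δ 0) :
    (ChowOps.deg X.obj.hom δ α : K) = T.tr X (T.clCyc X α) := by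
  classical
  have : Subsingleton ↥(Spec (CommRingCat.of k)) := inferInstanceAs (Subsingleton (PrimeSpectrum k))
  let s := (finite_support X α).toFinset
  have hs : ∀ ξ, α ξ ≠ 0 → ξ ∈ s := fun ξ h => (Set.Finite.mem_toFinset _).2 h
  have hcl : ∀ x ∈ s, IsClosed ({x} : Set X.obj.left) := fun x hx => by
    have h : δ x = 0 := by_contra fun h => (Set.Finite.mem_toFinset _).1 hx (hα x h)
    rw [delta_eq X δ hδ] at h
    exact (pdim_eq_zero_iff X x).1 (by exact_mod_cast h)
  have hdeg : ChowOps.deg X.obj.hom δ α = ∑ x ∈ s, α x := by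
    refine (Function.locallyFinsupp.map_apply (R := ℤ) _ _ α _).trans ?_
    rw [finsum_mem_eq_sum_of_inter_support_eq (t := s)]
    · refine Finset.sum_congr rfl fun x hx => ?_
      have h0 : δ x = 0 := by rw [delta_eq X δ hδ, (pdim_eq_zero_iff X x).2 (hcl x hx), Nat.cast_zero]
      unfold AlgebraicCycle.mapCoeff
      rw [if_pos h0, residueDegree_hom_of_isClosed X (hcl x hx), Nat.cast_one, mul_one]
    · ext x
      simp only [Set.mem_inter_iff]
      exact ⟨fun h => ⟨hs x (left_ne_zero_of_mul h.2), h.2⟩, fun h => ⟨Subsingleton.elim (α := ↥(Spec (CommRingCat.of k))) _ _, h.2⟩⟩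
  rw [hdeg, clCyc_eq_sum T X α s hs, map_sum, Int.cast_sum]
  refine Finset.sum_congr rfl fun x hx => ?_
  rw [map_smul, tr_cl_closedPoint T X (hcl x hx), smul_eq_mul, mul_one]

theorem clCyc_mem_of_Zk (X : Var k) (δ : ↥X.obj.left → ℤ) (hδ : Cyc.DeltaCompat X.obj.hom δ (fun _ => 0))
    (α : AlgebraicCycle X.obj.left ℤ) (hα : α ∈ Cyc.Zk X.obj.left δ 0) :
    T.clCyc X α ∈ T.gr X (2 * (WeilCoh.dim X.obj.left : ℤ)) := by
  refine finsum_induction (p := (· ∈ T.gr X (2 * (WeilCoh.dim X.obj.left : ℤ)))) (zero_mem _)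
    (fun a b => add_mem) fun x => ?_
  by_cases h : α x = 0
  · rw [h, Int.cast_zero, zero_smul]; exact zero_mem _
  · refine Submodule.smul_mem _ _ ?_
    have h0 : δ x = 0 := by_contra fun h' => h (hα x h')
    rw [delta_eq X δ hδ] at h0
    have := codim_add_pdim X x
    convert T.cl_mem X x using 2
    omega

theorem isHomEquivZero_iff_deg (X : Var k) [QuasiCompact X.obj.hom] (δ : ↥X.obj.left → ℤ)
    (hδ : Cyc.DeltaCompat X.obj.hom δ (fun _ => 0)) (α : AlgebraicCycle X.obj.left ℤ)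
    (hα : α ∈ Cyc.Zk X.obj.left δ 0) :
    T.IsHomEquivZero X α ↔ ChowOps.deg X.obj.hom δ α = 0 := by
  rw [← Int.cast_eq_zero (α := K), deg_eq_tr_clCyc T X δ hδ α hα]
  refine ⟨fun h => by rw [show T.clCyc X α = 0 from h, map_zero], fun h => ?_⟩
  have e := (T.tr_bijective X).1 (a₁ := ⟨_, clCyc_mem_of_Zk T X δ hδ α hα⟩) (a₂ := 0)
    (by rw [map_zero]; exact h)
  exact congrArg Subtype.val e

end Groth.Agent.WeilLib
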