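import Groth.Agent.WeilLib.Classes
import Mathlib.LinearAlgebra.Trace

/-!
# Dual bases, the class of a graph and the trace formula
-/

universe u v w

open CategoryTheory AlgebraicGeometry TensorProduct

namespace Groth.Agent.WeilLib

variable {k : Type u} [Field k] {P : ObjectProperty (Over (Spec (CommRingCat.of k)))}
variable {K : Type v} [Field K] (T : WeilCoh.TheoryOn.{u, v, w} k P K)

theorem neg_one_pow_natAbs_mul (r s : ℤ) (h : Even (r + s)) :
    (-1 : K) ^ (r.natAbs * s.natAbs) = (-1) ^ r.natAbs := by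
  rcases Int.even_or_odd r with hr | hr
  · rw [(Int.natAbs_even.2 hr).neg_one_pow, ((Int.natAbs_even.2 hr).mul_right _).neg_one_pow]
  · have hs : Odd s := by
      by_contra hs
      rw [Int.not_odd_iff_even] at hs
      exact Int.not_even_iff_odd.2 (hr.add_even hs) h
    rw [(Int.natAbs_odd.2 hr).neg_one_pow, ((Int.natAbs_odd.2 hr).mul (Int.natAbs_odd.2 hs)).neg_one_pow]

theorem neg_one_pow_natAbs_eq (r s : ℤ) (h : Even (r + s)) :
    (-1 : K) ^ r.natAbs = (-1) ^ s.natAbs := by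
  rw [← neg_one_pow_natAbs_mul r s h, mul_comm, neg_one_pow_natAbs_mul s r (by rwa [add_comm])]

/-- The dual basis of a basis under Poincaré duality. -/
theorem exists_dual_family {X : P.FullSubcategory} {i j : ℤ}
    (h : j + i = 2 * (WeilCoh.dim X.obj.left : ℤ)) {ι : Type*} [DecidableEq ι]
    (e : Module.Basis ι K (T.gr X i)) :
    ∃ f : ι → T.gr X j, ∀ a l, T.tr X ((f l : T.H X) * (e a : T.H X)) = if a = l then 1 else 0 := by
  have := T.duality X j i h
  let B := (WeilCoh.pairing K (T.gr X j) (T.gr X i) (T.tr X)).toPerfPair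
  refine ⟨fun l => B.symm (e.coord l), fun a l => ?_⟩
  have h' := LinearMap.congr_fun (B.apply_symm_apply (e.coord l)) (e a)
  refine (show T.tr X ((B.symm (e.coord l) : T.H X) * (e a : T.H X)) = e.coord l (e a) from h').trans ?_
  rw [Module.Basis.coord_apply, Module.Basis.repr_self, Finsupp.single_apply]

theorem repr_eq_tr {X : P.FullSubcategory} {i j : ℤ} {ι : Type*} [Fintype ι] [DecidableEq ι]
    (e : Module.Basis ι K (T.gr X i)) (f : ι → T.gr X j)
    (hef : ∀ a l, T.tr X ((f l : T.H X) * (e a : T.H X)) = if a = l then 1 else 0) (b : T.gr X i) (l : ι) :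
    e.repr b l = T.tr X ((f l : T.H X) * (b : T.H X)) := by
  conv_rhs => rw [← e.sum_repr b]
  rw [Submodule.coe_sum, Finset.mul_sum, map_sum, Finset.sum_eq_single l]
  · simp [hef]
  · intro a _ ha
    simp [hef, ha]
  · simp

theorem eq_sum_dual {X : P.FullSubcategory} {i j : ℤ} {ι : Type*} [Fintype ι] [DecidableEq ι]
    (e : Module.Basis ι K (T.gr X i)) (f : ι → T.gr X j)
    (hef : ∀ a l, T.tr X ((f l : T.H X) * (e a : T.H X)) = if a = l then 1 else 0) (b : T.gr X i) :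
    ∑ l, T.tr X ((f l : T.H X) * (b : T.H X)) • (e l : T.H X) = b := by
  conv_rhs => rw [← e.sum_repr b]
  simp [repr_eq_tr T e f hef]

/-- The swap of the factors preserves the trace. -/
theorem tr_pull_swap {X Y Q Q' : P.FullSubcategory} (p : Q ⟶ X) (q : Q ⟶ Y) (hQ : WeilCoh.IsProd p q)
    (p' : Q' ⟶ Y) (q' : Q' ⟶ X) (hQ' : WeilCoh.IsProd p' q') (σ : Q ⟶ Q') (h₁ : σ ≫ p' = q)
    (h₂ : σ ≫ q' = p) (c : T.H Q') : T.tr Q (T.pull σ c) = T.tr Q' c := by
  refine kunneth_induction T p' q' hQ' (motive := fun c => T.tr Q (T.pull σ c) = T.tr Q' c) c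
    (by simp) (fun a b ha hb => by simp [ha, hb]) fun i j a ha b hb => ?_
  rw [map_mul, ← pull_comp_apply, ← pull_comp_apply, h₁, h₂, tr_prod_eq T p' q' hQ' ha hb,
    T.gradedComm Q _ _ _ _ (T.pull_mem q _ _ ha) (T.pull_mem p _ _ hb), map_smul,
    tr_prod_eq T p q hQ hb ha, smul_eq_mul]
  by_cases hi : i = 2 * (WeilCoh.dim Y.obj.left : ℤ)
  · subst hi
    rw [neg_one_pow_even_mul, one_mul, mul_comm]
  · rw [T.tr_vanish Y i a ha hi, mul_zero, mul_zero, zero_mul]

/-- `q_*(p^* a · q^* y) = tr(a) y`, in the dual form. -/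
theorem tr_pull_mul_pull {X Y Q : P.FullSubcategory} (p : Q ⟶ X) (q : Q ⟶ Y) (hQ : WeilCoh.IsProd p q)
    {i j : ℤ} {a : T.H X} {y : T.H Y} (ha : a ∈ T.gr X i) (hy : y ∈ T.gr Y j) (b : T.H Y) :
    T.tr Q (T.pull p a * T.pull q y * T.pull q b) = T.tr X a * T.tr Y (y * b) := by
  refine homogeneous_induction T
    (motive := fun b => T.tr Q (T.pull p a * T.pull q y * T.pull q b) = T.tr X a * T.tr Y (y * b))
    b (by simp) (fun a b ha hb => by simp [mul_add, ha, hb]) fun l b hb => ?_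
  rw [mul_assoc, ← map_mul, tr_prod_eq T p q hQ ha (SetLike.mul_mem_graded hy hb)]

end Groth.Agent.WeilLib

namespace Groth.Agent.WeilLib

open WeilCoh

variable {k : Type u} [Field k] [IsAlgClosed k] {K : Type v} [Field K] [CharZero K] (T : Theory k K)

theorem natAbs_add_even (a : ℤ) (b : ℕ) (h : a + b = 0) : a.natAbs = b := by omega

theorem cl_graph_eq {X Q : Var k} (φ : X ⟶ X) (p q : Q ⟶ X) (hQ : IsProd p q) (j : X ⟶ Q)
    (hjp : j ≫ p = 𝟙 X) (hjq : j ≫ q = φ) (ι : ℕ → Type*) [∀ r, Fintype (ι r)] [∀ r, DecidableEq (ι r)]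
    (e : (r : ℕ) → Module.Basis (ι r) K (T.gr X (r : ℤ)))
    (f : (r : ℕ) → ι r → T.gr X (2 * (dim X.obj.left : ℤ) - r))
    (hef : ∀ r, r ≤ 2 * dim X.obj.left → ∀ i l : ι r,
      T.tr X ((f r l : T.H X) * (e r i : T.H X)) = if i = l then 1 else 0) :
    T.cl Q (sm j (genericPoint X.obj.left)) =
      ∑ r ∈ Finset.range (2 * dim X.obj.left + 1), ∑ i : ι r,
        T.pull p (T.pull φ (e r i : T.H X)) * T.pull q (f r i : T.H X) := by
  classical
  have hd := dim_prod T p q hQ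
  refine eq_of_tr_mul_right T (i := 2 * (dim X.obj.left : ℤ)) (j := 2 * (dim X.obj.left : ℤ)) (by omega)
    (by convert cl_graph_mem T j p hjp using 2; omega)
    (Submodule.sum_mem _ fun r _ => Submodule.sum_mem _ fun i _ =>
      pull_mul_mem T p q (T.pull_mem φ _ _ (e r i).2) (f r i).2 (by omega)) fun c _ => ?_
  rw [tr_cl_graph_mul T j p hjp]
  refine kunneth_induction T p q hQ (motive := fun c => T.tr X (T.pull j c) = T.tr Q (_ * c)) c
    (by simp) (fun a b ha hb => by simp [mul_add, ha, hb]) fun s t a ha b hb => ?_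
  rw [map_mul, ← pull_comp_apply, ← pull_comp_apply, hjp, hjq, pull_id_apply, Finset.sum_mul, map_sum]
  have hterm : ∀ (r : ℕ) (i : ι r),
      T.tr Q (T.pull p (T.pull φ (e r i : T.H X)) * T.pull q (f r i : T.H X) * (T.pull p a * T.pull q b)) =
      (-1 : K) ^ ((2 * (dim X.obj.left : ℤ) - r).natAbs * s.natAbs) *
        (T.tr X (T.pull φ (e r i : T.H X) * a) * T.tr X ((f r i : T.H X) * b)) := by
    intro r i
    have e1 : T.pull q (f r i : T.H X) * T.pull p a =
        ((-1 : K) ^ ((2 * (dim X.obj.left : ℤ) - r).natAbs * s.natAbs)) •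
          (T.pull p a * T.pull q (f r i : T.H X)) :=
      T.gradedComm Q _ _ _ _ (T.pull_mem q _ _ (f r i).2) (T.pull_mem p _ _ ha)
    rw [mul_assoc, ← mul_assoc (T.pull q _), e1, smul_mul_assoc, mul_smul_comm, map_smul, smul_eq_mul,
      mul_assoc (T.pull p a), ← map_mul (T.pull q), ← mul_assoc, ← map_mul (T.pull p),
      tr_prod_eq T p q hQ (SetLike.mul_mem_graded (T.pull_mem φ _ _ (e r i).2) ha)
        (SetLike.mul_mem_graded (f r i).2 hb)]
  simp only [Finset.sum_mul, map_sum, hterm]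
  by_cases hb0 : b = 0
  · simp [hb0]
  have hsome : 0 ≤ t ∧ t ≤ 2 * (dim X.obj.left : ℤ) := by
    by_contra h
    exact hb0 ((Submodule.mem_bot K).1 (T.vanish X t (by omega) ▸ hb))
  obtain ⟨r, rfl⟩ : ∃ r : ℕ, t = r := ⟨t.toNat, by omega⟩
  rw [Finset.sum_eq_single r]
  · by_cases hst : s + r = 2 * (dim X.obj.left : ℤ)
    · have hexp := eq_sum_dual T (e r) (f r) (hef r (by omega)) ⟨b, hb⟩
      change T.tr X (a * T.pull φ b) = _
      conv_lhs => rw [T.gradedComm X s r a (T.pull φ b) ha (T.pull_mem φ _ _ hb), map_smul, smul_eq_mul,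
        ← (show (∑ l, T.tr X ((f r l : T.H X) * b) • (e r l : T.H X)) = b from hexp)]
      simp only [map_sum, map_smul, Finset.sum_mul, smul_mul_assoc, smul_eq_mul, Finset.mul_sum]
      refine Finset.sum_congr rfl fun l _ => ?_
      have hsgn : (-1 : K) ^ ((2 * (dim X.obj.left : ℤ) - r).natAbs * s.natAbs) =
          (-1) ^ (s.natAbs * (r : ℤ).natAbs) := by
        rw [neg_one_pow_natAbs_mul s r ⟨dim X.obj.left, by omega⟩,
          (show (2 * (dim X.obj.left : ℤ) - r).natAbs = s.natAbs by omega),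
          neg_one_pow_natAbs_mul s s ⟨s, rfl⟩]
      rw [hsgn]
      ring
    · rw [tr_mul_eq_zero_of_ne T ha (T.pull_mem φ _ _ hb) hst]
      refine (Finset.sum_eq_zero fun l _ => ?_).symm
      rw [tr_mul_eq_zero_of_ne T (T.pull_mem φ _ _ (e r l).2) ha (by omega), zero_mul, mul_zero]
  · intro r' _ hne
    refine Finset.sum_eq_zero fun l _ => ?_
    rw [tr_mul_eq_zero_of_ne T (f r' l).2 hb (by omega), mul_zero, mul_zero]
  · intro h
    simp only [Finset.mem_range] at h
    omega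

theorem exists_bases (X : Var k) :
    ∃ (ι : ℕ → Type) (_ : ∀ r, Fintype (ι r)) (_ : ∀ r, DecidableEq (ι r))
      (e : (r : ℕ) → Module.Basis (ι r) K (T.gr X (r : ℤ)))
      (f : (r : ℕ) → ι r → T.gr X (2 * (dim X.obj.left : ℤ) - r)),
      ∀ r, ∀ i l : ι r, T.tr X ((f r l : T.H X) * (e r i : T.H X)) = if i = l then 1 else 0 := by
  have := T.finite X
  let e := fun r : ℕ => Module.finBasis K (T.gr X (r : ℤ))
  choose f hf using fun r : ℕ => exists_dual_family T (X := X) (i := (r : ℤ))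
    (j := 2 * (dim X.obj.left : ℤ) - r) (by omega) (e r)
  exact ⟨_, fun _ => inferInstance, fun _ => inferInstance, e, f, hf⟩

theorem trace_eq_sum_repr {X : Var k} {i j : ℤ} {ι : Type*} [Fintype ι] [DecidableEq ι]
    (e : Module.Basis ι K (T.gr X i)) (f : ι → T.gr X j)
    (hef : ∀ a l, T.tr X ((f l : T.H X) * (e a : T.H X)) = if a = l then 1 else 0)
    (L : T.gr X i →ₗ[K] T.gr X i) :
    LinearMap.trace K (T.gr X i) L = ∑ l, T.tr X ((f l : T.H X) * (L (e l) : T.H X)) := by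
  rw [LinearMap.trace_eq_matrix_trace K e, Matrix.trace]
  exact Finset.sum_congr rfl fun l _ => by
    rw [Matrix.diag_apply, LinearMap.toMatrix_apply, repr_eq_tr T e f hef]

/-- The Lefschetz trace formula. -/
theorem tr_graph_diag {X Q : Var k} (φ : X ⟶ X) (p q : Q ⟶ X) (hQ : IsProd p q) (j d : X ⟶ Q)
    (hjp : j ≫ p = 𝟙 X) (hjq : j ≫ q = φ) (hdp : d ≫ p = 𝟙 X) (hdq : d ≫ q = 𝟙 X) :
    T.tr Q (T.cl Q (sm j (genericPoint X.obj.left)) * T.cl Q (sm d (genericPoint X.obj.left))) =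
      ∑ i ∈ Finset.range (2 * dim X.obj.left + 1),
        (-1 : K) ^ i * LinearMap.trace K (T.gr X (i : ℤ)) (T.pullDeg φ (i : ℤ)) := by
  obtain ⟨ι, _, _, e, f, hef⟩ := exists_bases T X
  have hm := cl_graph_mem T j p hjp
  rw [even_comm T hm (T.cl_mem Q _), tr_cl_graph_mul T d p hdp,
    cl_graph_eq T φ p q hQ j hjp hjq ι e f (fun r _ => hef r)]
  simp only [map_sum, map_mul, ← pull_comp_apply, reassoc_of% hdp, reassoc_of% hdq, hdq]
  refine Finset.sum_congr rfl fun r _ => ?_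
  rw [trace_eq_sum_repr T (e r) (f r) (hef r), Finset.mul_sum]
  refine Finset.sum_congr rfl fun l _ => ?_
  rw [pull_id_apply, T.gradedComm X r (2 * (dim X.obj.left : ℤ) - r) (T.pull φ (e r l : T.H X)) (f r l : T.H X)
      (T.pull_mem φ _ _ (e r l).2) (f r l).2,
    map_smul, smul_eq_mul, neg_one_pow_natAbs_mul _ _ ⟨dim X.obj.left, by omega⟩, Int.natAbs_natCast]
  rfl

theorem isAction_unique {X Y Q : Var k} (p : Q ⟶ X) (q : Q ⟶ Y) (hQ : IsProd p q) {l : ℤ} {φ : T.H Q}
    (hφ : φ ∈ T.gr Q l)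
    (h : ∀ i, ∀ x ∈ T.gr X i, ∀ b : T.H Y, T.tr Q (T.pull p x * φ * T.pull q b) = 0) : φ = 0 := by
  refine eq_zero_of_tr_mul T hφ fun c _ => ?_
  refine kunneth_induction T p q hQ (motive := fun c => T.tr Q (φ * c) = 0) c
    (by simp) (fun a b ha hb => by simp [mul_add, ha, hb]) fun i j x hx y _ => ?_
  rw [← mul_assoc, T.gradedComm Q _ _ _ _ hφ (T.pull_mem p _ _ hx), smul_mul_assoc, map_smul, h i x hx y,
    smul_zero]

theorem tr_action {Y Q : Var k} (q : Q ⟶ Y) (i : ℤ) (z : T.gr Q i) (b : T.H Y) :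
    T.tr Q ((z : T.H Q) * T.pull q b) = T.tr Y ((T.push q i z : T.H Y) * b) := by
  refine homogeneous_induction T
    (motive := fun b => T.tr Q ((z : T.H Q) * T.pull q b) = T.tr Y ((T.push q i z : T.H Y) * b))
    b (by simp) (fun a b ha hb => by simp [mul_add, ha, hb]) fun t b hb => ?_
  by_cases ht : t = 2 * (dim Q.obj.left : ℤ) - i
  · exact (tr_push T q i z (ht ▸ hb)).symm
  · rw [tr_mul_eq_zero_of_ne T z.2 (T.pull_mem q _ _ hb) (by omega),
      tr_mul_eq_zero_of_ne T (T.push q i z).2 hb (by omega)]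

end Groth.Agent.WeilLib
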