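import Groth.Agent.WeilLib.FrobCoh
import Groth.Agent.WeilLib.Lefschetz
import Mathlib.FieldTheory.RatFunc.AsPolynomial

/-!
# The functional equation
-/

universe u v

open CategoryTheory AlgebraicGeometry Polynomial

namespace Groth.Agent.WeilLib

open WeilCoh

theorem prod_range_split {M : Type*} [CommMonoid M] (n : ℕ) (f : ℕ → M) :
    (∏ i ∈ Finset.range n, f (2 * i + 1)) * (∏ i ∈ Finset.range (n + 1), f (2 * i)) =
      ∏ i ∈ Finset.range (2 * n + 1), f i := by
  induction n with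
  | zero => simp
  | succ n ih =>
    rw [show 2 * (n + 1) + 1 = (2 * n + 1) + 1 + 1 by ring, Finset.prod_range_succ _ (2 * n + 1 + 1),
      Finset.prod_range_succ _ (2 * n + 1), ← ih, Finset.prod_range_succ _ n,
      Finset.prod_range_succ (fun i => f (2 * i)) (n + 1)]
    rw [show 2 * (n + 1) = 2 * n + 1 + 1 by ring]
    ac_rfl

theorem prod_odd_div_prod_even {F : Type*} [Field F] (n : ℕ) (f : ℕ → F) :
    (∏ i ∈ Finset.range n, f (2 * i + 1)) / (∏ i ∈ Finset.range (n + 1), f (2 * i)) =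
      (∏ i ∈ Finset.range (2 * n + 1), f i ^ ((-1 : ℤ) ^ i))⁻¹ := by
  rw [← prod_range_split n (fun i => f i ^ ((-1 : ℤ) ^ i))]
  have h1 : ∀ i, ((-1 : ℤ) ^ (2 * i + 1)) = -1 := fun i => (odd_two_mul_add_one i).neg_one_pow
  have h2 : ∀ i, ((-1 : ℤ) ^ (2 * i)) = 1 := fun i => (even_two_mul i).neg_one_pow
  simp only [h1, h2, zpow_one, zpow_neg, Finset.prod_inv_distrib, mul_inv, inv_inv, div_eq_mul_inv]

theorem zpow_finset_sum {F : Type*} [Field F] {y : F} (hy : y ≠ 0) {ι : Type*} (s : Finset ι) (e : ι → ℤ) :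
    ∏ i ∈ s, y ^ e i = y ^ ∑ i ∈ s, e i := by
  classical
  induction s using Finset.induction with
  | empty => simp
  | insert a s ha ih => rw [Finset.prod_insert ha, Finset.sum_insert ha, zpow_add₀ hy, ih]

theorem even_sum_of_symm (n : ℕ) (B : ℕ → ℕ) (hsymm : ∀ i, i ≤ 2 * n → B (2 * n - i) = B i)
    (hmid : Odd n → Even (B n)) :
    Even ((n : ℤ) * ∑ i ∈ Finset.range (2 * n + 1), (-1 : ℤ) ^ i * (B i : ℤ)) := by
  rcases Nat.even_or_odd n with hn | hn
  · exact (Int.even_coe_nat n |>.2 hn).mul_right _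
  refine Even.mul_left ?_ _
  rw [← ZMod.intCast_eq_zero_iff_even]
  push_cast
  have h1 : ∀ i, (-1 : ZMod 2) ^ i * (B i : ZMod 2) = B i := fun i => by
    rw [ZMod.neg_eq_self_mod_two, one_pow, one_mul]
  simp only [h1]
  refine Finset.sum_involution (fun i _ => 2 * n - i) ?_ ?_ ?_ ?_
  · intro i hi
    rw [Finset.mem_range] at hi
    rw [hsymm i (by omega), ← two_mul, show (2 : ZMod 2) = 0 from rfl, zero_mul]
  · intro i hi hne h
    rw [Finset.mem_range] at hi
    have : i = n := by omega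
    subst this
    exact hne (ZMod.natCast_eq_zero_iff_even.2 (hmid hn))
  · intro i hi; rw [Finset.mem_range] at hi ⊢; omega
  · intro i hi; rw [Finset.mem_range] at hi; omega

theorem aeval_reverse_inv {K : Type*} [Field K] {L : Type*} [Field L] [Algebra K L] (f : K[X]) {y : L} (hy : y ≠ 0) :
    aeval y⁻¹ f.reverse = aeval y f * y ^ (-(f.natDegree : ℤ)) := by
  let : Invertible y := invertibleOfNonzero hy
  have h := Polynomial.eval₂_reverse_mul_pow (algebraMap K L) y f
  rw [invOf_eq_inv] at h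
  rw [aeval_def, aeval_def, ← h, zpow_neg, zpow_natCast, mul_assoc, mul_inv_cancel₀ (pow_ne_zero _ hy), mul_one]

theorem rat_functional_equation {K : Type*} [Field K] (n q : ℕ) (hq : (q : K) ≠ 0) (B : ℕ → ℕ) (s : ℕ → K)
    (χ : ℕ → K[X]) (hdeg : ∀ i, (χ i).natDegree = B i) (hmonic : ∀ i, (χ i).Monic)
    (hs : ∀ i ≤ 2 * n, s i * s (2 * n - i) = ((q : K) ^ n) ^ B i)
    (heq : ∀ i ≤ 2 * n, (χ i).comp (C ((q : K) ^ n) * X) = s i • (χ (2 * n - i)).reverse)
    (heven : Even ((n : ℤ) * ∑ i ∈ Finset.range (2 * n + 1), (-1 : ℤ) ^ i * (B i : ℤ))) :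
    ∃ ε : K, (ε = 1 ∨ ε = -1) ∧
      aeval ((RatFunc.X : RatFunc K)⁻¹ * RatFunc.C ((q : K) ^ n)⁻¹) (∏ i ∈ Finset.range n, (χ (2 * i + 1)).reverse) /
        aeval ((RatFunc.X : RatFunc K)⁻¹ * RatFunc.C ((q : K) ^ n)⁻¹) (∏ i ∈ Finset.range (n + 1), (χ (2 * i)).reverse) =
      RatFunc.C ε * RatFunc.C (q : K) ^ ((n : ℤ) * (∑ i ∈ Finset.range (2 * n + 1), (-1 : ℤ) ^ i * (B i : ℤ)) / 2) *
        (RatFunc.X : RatFunc K) ^ (∑ i ∈ Finset.range (2 * n + 1), (-1 : ℤ) ^ i * (B i : ℤ)) *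
        (algebraMap K[X] (RatFunc K) (∏ i ∈ Finset.range n, (χ (2 * i + 1)).reverse) /
          algebraMap K[X] (RatFunc K) (∏ i ∈ Finset.range (n + 1), (χ (2 * i)).reverse)) := by
  classical
  set E := ∑ i ∈ Finset.range (2 * n + 1), (-1 : ℤ) ^ i * (B i : ℤ) with hE
  set c := (q : K) ^ n with hc
  have hc0 : c ≠ 0 := pow_ne_zero _ hq
  have hs0 : ∀ i ∈ Finset.range (2 * n + 1), s i ≠ 0 := fun i hi h => by
    have h' := hs i (by rw [Finset.mem_range] at hi; omega)
    rw [h, zero_mul] at h'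
    exact pow_ne_zero _ hc0 h'.symm
  set D : K := ∏ i ∈ Finset.range (2 * n + 1), s i ^ ((-1 : ℤ) ^ i) with hD
  have hD0 : D ≠ 0 := Finset.prod_ne_zero_iff.2 fun i hi => zpow_ne_zero _ (hs0 i hi)
  have hD2 : D * D = c ^ E := by
    conv_lhs => arg 2; rw [hD, ← Finset.prod_range_reflect]
    rw [hD, ← Finset.prod_mul_distrib, hE, ← zpow_finset_sum hc0]
    refine Finset.prod_congr rfl fun i hi => ?_
    rw [Finset.mem_range] at hi
    have hi' : i ≤ 2 * n := by omega
    have hsign : ((-1 : ℤ) ^ (2 * n + 1 - 1 - i)) = (-1) ^ i := by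
      rw [neg_one_pow_eq_pow_mod_two, neg_one_pow_eq_pow_mod_two (n := i)]; congr 1; omega
    rw [hsign, show 2 * n + 1 - 1 - i = 2 * n - i by omega, ← mul_zpow, hs i hi', mul_comm, zpow_mul, zpow_natCast]
  have hD3 : D = (q : K) ^ ((n : ℤ) * E / 2) ∨ D = -((q : K) ^ ((n : ℤ) * E / 2)) := by
    rw [← mul_self_eq_mul_self_iff, hD2, ← zpow_add₀ hq, hc, ← zpow_natCast, ← zpow_mul]
    congr 1
    obtain ⟨m, hm⟩ := heven
    omega
  set Y : RatFunc K := RatFunc.C c * RatFunc.X with hY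
  have hY0 : Y ≠ 0 := mul_ne_zero (by rw [_root_.map_ne_zero]; exact hc0) RatFunc.X_ne_zero
  have hu : (RatFunc.X : RatFunc K)⁻¹ * RatFunc.C c⁻¹ = Y⁻¹ := by
    rw [hY, mul_inv_rev, map_inv₀]
  have hmapX : ∀ p : K[X], aeval (RatFunc.X : RatFunc K) p = algebraMap K[X] (RatFunc K) p := fun p => by
    rw [← RatFunc.algebraMap_X, aeval_algebraMap_apply, aeval_X_left_apply]
  let R : ℕ → RatFunc K := fun i => algebraMap K[X] (RatFunc K) (χ i).reverse
  let g : ℕ → RatFunc K := fun i => RatFunc.C (s i) * Y ^ (-(B i : ℤ))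
  have key : ∀ i ∈ Finset.range (2 * n + 1), aeval Y⁻¹ (χ i).reverse = g i * R (2 * n - i) := by
    intro i hi
    have hi' : i ≤ 2 * n := by rw [Finset.mem_range] at hi; omega
    have h := congrArg (aeval (RatFunc.X : RatFunc K)) (heq i hi')
    rw [aeval_comp, map_smul, map_mul, aeval_C, aeval_X, hmapX, Algebra.smul_def] at h
    rw [aeval_reverse_inv _ hY0, hdeg, show aeval Y (χ i) = _ from h]
    show _ = RatFunc.C (s i) * _ * _
    rw [RatFunc.algebraMap_eq_C]
    ring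
  have hg : (∏ i ∈ Finset.range n, g (2 * i + 1)) / (∏ i ∈ Finset.range (n + 1), g (2 * i)) =
      RatFunc.C D * RatFunc.X ^ E := by
    rw [prod_odd_div_prod_even]
    simp only [g, mul_zpow, Finset.prod_mul_distrib, ← map_zpow₀, ← map_prod, ← zpow_mul, zpow_finset_sum hY0]
    rw [← hD, mul_inv, ← zpow_neg, hY, mul_zpow, ← map_zpow₀, ← map_inv₀, ← mul_assoc, ← map_mul]
    have : -∑ i ∈ Finset.range (2 * n + 1), -(B i : ℤ) * (-1) ^ i = E := by
      rw [hE, ← Finset.sum_neg_distrib]; refine Finset.sum_congr rfl fun i _ => ?_; ring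
    rw [this, ← hD2, inv_mul_cancel_left₀ hD0]
  refine ⟨D / (q : K) ^ ((n : ℤ) * E / 2), ?_, ?_⟩
  · rcases hD3 with h | h <;> rw [h]
    · exact Or.inl (div_self (zpow_ne_zero _ hq))
    · exact Or.inr (by rw [neg_div, div_self (zpow_ne_zero _ hq)])
  · have e1 : aeval Y⁻¹ (∏ i ∈ Finset.range n, (χ (2 * i + 1)).reverse) =
        (∏ i ∈ Finset.range n, g (2 * i + 1)) * (∏ i ∈ Finset.range n, R (2 * n - (2 * i + 1))) := by
      rw [map_prod, ← Finset.prod_mul_distrib]
      exact Finset.prod_congr rfl fun i hi => key (2 * i + 1) (by rw [Finset.mem_range] at hi ⊢; omega)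
    have e2 : aeval Y⁻¹ (∏ i ∈ Finset.range (n + 1), (χ (2 * i)).reverse) =
        (∏ i ∈ Finset.range (n + 1), g (2 * i)) * (∏ i ∈ Finset.range (n + 1), R (2 * n - 2 * i)) := by
      rw [map_prod, ← Finset.prod_mul_distrib]
      exact Finset.prod_congr rfl fun i hi => key (2 * i) (by rw [Finset.mem_range] at hi ⊢; omega)
    rw [← map_zpow₀, ← map_mul, div_mul_cancel₀ _ (zpow_ne_zero _ hq), hu, e1, e2, mul_div_mul_comm, hg,
      map_prod (algebraMap K[X] (RatFunc K)), map_prod (algebraMap K[X] (RatFunc K))]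
    congr 2
    · rw [← Finset.prod_range_reflect _ n]
      refine Finset.prod_congr rfl fun i hi => ?_
      rw [Finset.mem_range] at hi
      show R (2 * n - (2 * (n - 1 - i) + 1)) = R (2 * i + 1)
      congr 1; omega
    · rw [← Finset.prod_range_reflect _ (n + 1)]
      refine Finset.prod_congr rfl fun i hi => ?_
      rw [Finset.mem_range] at hi
      show R (2 * n - 2 * (n + 1 - 1 - i)) = R (2 * i)
      congr 1; omega

variable {k : Type u} [Field k] [IsAlgClosed k] {K : Type v} [Field K] [CharZero K] (T : Theory k K)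

theorem even_finrank_middle (X : Var k) (h : Odd (dim X.obj.left)) :
    Even (Module.finrank K (T.gr X (dim X.obj.left : ℤ))) := by
  classical
  set n := dim X.obj.left
  have := T.finite X (n : ℤ)
  have hp := T.duality X (n : ℤ) n (by ring)
  let b := Module.finBasis K (T.gr X (n : ℤ))
  let M := LinearMap.toMatrix b b.dualBasis (WeilCoh.pairing K (T.gr X (n : ℤ)) (T.gr X n) (T.tr X))
  have hM : M.transpose = -M := by
    ext a c
    simp only [M, Matrix.transpose_apply, Matrix.neg_apply, LinearMap.toMatrix_apply, Module.Basis.dualBasis_repr]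
    show T.tr X ((b a : T.H X) * (b c : T.H X)) = -T.tr X ((b c : T.H X) * (b a : T.H X))
    rw [T.gradedComm X n n _ _ (b a).2 (b c).2, map_smul, Int.natAbs_natCast, (h.mul h).neg_one_pow, smul_eq_mul,
      neg_one_mul]
  have hdet : M.det ≠ 0 := (LinearEquiv.isUnit_det
    (WeilCoh.pairing K (T.gr X (n : ℤ)) (T.gr X n) (T.tr X)).toPerfPair b b.dualBasis).ne_zero
  by_contra hodd
  rw [Nat.not_even_iff_odd] at hodd
  have h1 : M.det = -M.det := by
    conv_lhs => rw [← Matrix.det_transpose, hM, Matrix.det_neg, Fintype.card_fin, hodd.neg_one_pow, neg_one_mul]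
  exact hdet (by linear_combination h1 / 2)

end Groth.Agent.WeilLib
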