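import Groth.Agent.WeilLib.Counting
import Groth.Agent.WeilLib.LogDeriv
import Groth.Agent.WeilLib.FuncEq
import Mathlib.LinearAlgebra.Charpoly.ToMatrix

/-!
# The cohomological formula for the zeta function
-/

universe u v

open CategoryTheory CategoryTheory.Limits AlgebraicGeometry TopologicalSpace

namespace Groth.Agent.WeilLib

open WeilCoh Groth.Agent.DimLib PowerSeries

variable {k₀ : Type u} [Field k₀] [Finite k₀] {k : Type u} [Field k] [IsAlgClosed k] [Algebra k₀ k]
variable {X : Scheme.{u}}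

theorem comp_FX_of_isLocalRing (FX : X ⟶ X) (hle : ∀ U : X.Opens, U ≤ FX ⁻¹ᵁ U) (q : ℕ)
    (hFapp : ∀ (U : X.Opens) (s : Γ(X, U)), (FX.appLE U U (hle U)).hom s = s ^ q)
    {A : CommRingCat.{u}} [IsLocalRing A] (φA : A →+* A) (hφA : ∀ a, φA a = a ^ q) (g : Spec A ⟶ X) :
    g ≫ FX = Spec.map (CommRingCat.ofHom φA) ≫ g := by
  let c : ↥(Spec A) := IsLocalRing.closedPoint A
  obtain ⟨U, hU, hxU, -⟩ := exists_isAffineOpen_mem_and_subset (X := X) (U := ⊤) (x := g c) trivial
  have hg : Set.range g ⊆ Set.range hU.fromSpec := by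
    rw [hU.range_fromSpec]
    rintro _ ⟨z, rfl⟩
    exact ((IsLocalRing.specializes_closedPoint z).map g.continuous).mem_open U.2 hxU
  obtain ⟨φ, rfl⟩ : ∃ φ, Spec.map φ ≫ hU.fromSpec = g :=
    ⟨Spec.preimage (IsOpenImmersion.lift hU.fromSpec g hg), by rw [Spec.map_preimage, IsOpenImmersion.lift_fac]⟩
  rw [Category.assoc, ← hU.SpecMap_appLE_fromSpec FX hU (hle U), ← Spec.map_comp_assoc, ← Spec.map_comp_assoc]
  congr 2
  refine CommRingCat.hom_ext (RingHom.ext fun s => ?_)
  show φ.hom ((FX.appLE U U (hle U)).hom s) = φA (φ.hom s)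
  rw [hFapp, hφA, map_pow]

theorem hasPower (m : ℕ) : HasPower k (Nat.card k₀ ^ m) := by
  cases nonempty_fintype k₀
  obtain ⟨p, hp, r, hpp, hcard⟩ := FiniteField.card' k₀
  have : Fact p.Prime := ⟨hpp⟩
  have hpk : CharP k p := charP_of_injective_algebraMap (algebraMap k₀ k).injective p
  intro A _ _ ρ
  have : CharP A p := charP_of_injective_ringHom ρ.injective p
  exact ⟨iterateFrobenius A p ((r : ℕ) * m), fun a => by
    rw [iterateFrobenius_def, Nat.card_eq_fintype_card, hcard, ← pow_mul]⟩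

variable (f : X ⟶ Spec (CommRingCat.of k₀)) [LocallyOfFiniteType f]
    (FX : X ⟶ X) (hle : ∀ U : X.Opens, U ≤ FX ⁻¹ᵁ U)
    (hFapp : ∀ (U : X.Opens) (s : Γ(X, U)), (FX.appLE U U (hle U)).hom s = s ^ Nat.card k₀)
    (Xb : Var k) (π : Xb.obj.left ⟶ X)
    (hπ : IsPullback π Xb.obj.hom f (Spec.map (CommRingCat.ofHom (algebraMap k₀ k))))
    (F : Xb ⟶ Xb) (hF : sm F ≫ π = π ≫ FX)

include hle hFapp hF in
theorem isFrobLike_iter (m : ℕ) : IsFrobLike Xb π (iter F m) (Nat.card k₀ ^ m) := by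
  induction m with
  | zero =>
    intro A _ φA hφA t
    have : φA = RingHom.id A := RingHom.ext fun a => by rw [hφA, pow_zero, pow_one]; rfl
    rw [this, CommRingCat.ofHom_id, Spec.map_id]
    show t ≫ sm (𝟙 Xb) ≫ π = 𝟙 _ ≫ t ≫ π
    rw [Category.id_comp]
    exact congrArg (t ≫ ·) (Category.id_comp π)
  | succ m ih =>
    intro A _ φA hφA t
    cases nonempty_fintype k₀
    obtain ⟨p, hp, r, hpp, hcard⟩ := FiniteField.card' k₀
    have : Fact p.Prime := ⟨hpp⟩
    have hpk : CharP k p := charP_of_injective_algebraMap (algebraMap k₀ k).injective p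
    let ρ : k →+* A := (Spec.preimage (t ≫ Xb.obj.hom)).hom
    obtain ⟨φ1, hφ1⟩ := hasPower (k₀ := k₀) (k := k) 1 A ρ
    obtain ⟨φm, hφm⟩ := hasPower (k₀ := k₀) (k := k) m A ρ
    calc t ≫ sm (iter F m ≫ F) ≫ π = (t ≫ sm (iter F m) ≫ π) ≫ FX := by
          show t ≫ (sm (iter F m) ≫ sm F) ≫ π = _
          rw [Category.assoc, hF, Category.assoc, Category.assoc]
      _ = Spec.map (CommRingCat.ofHom φm) ≫ Spec.map (CommRingCat.ofHom φ1) ≫ t ≫ π := by
          rw [ih A φm hφm t, Category.assoc,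
            comp_FX_of_isLocalRing FX hle (Nat.card k₀) hFapp φ1 (fun a => by rw [hφ1, pow_one]) (t ≫ π)]
      _ = Spec.map (CommRingCat.ofHom φA) ≫ t ≫ π := by
          rw [← Category.assoc, ← Spec.map_comp]
          congr 2
          refine CommRingCat.hom_ext (RingHom.ext fun a => ?_)
          show φm (φ1 a) = φA a
          rw [hφm, hφ1, hφA, ← pow_mul, ← pow_add, Nat.add_comm]

variable {K : Type v} [Field K] [CharZero K] (T : Theory k K)

include hle hFapp hπ hF in
theorem nPts_eq_trace (Pb : Var k) (p q : Pb ⟶ Xb) (hP : IsProd p q) (m : ℕ) (hm : 1 ≤ m) :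
    (Zeta.nPts f m : K) = ∑ i ∈ Finset.range (2 * dim Xb.obj.left + 1),
      (-1 : K) ^ i * LinearMap.trace K (T.gr Xb (i : ℤ)) ((T.pullDeg F (i : ℤ)) ^ m) := by
  let G := iter F m
  let j := prodLift hP (𝟙 Xb) G
  let d := prodLift hP (𝟙 Xb) (𝟙 Xb)
  have hG := isFrobLike_iter FX hle hFapp Xb π F hF m
  have hpow : HasPower k (Nat.card k₀ ^ m) := hasPower m
  have hQ : 2 ≤ Nat.card k₀ ^ m :=
    le_trans (Finite.one_lt_card (α := k₀)) (Nat.le_self_pow (by omega) _)
  obtain ⟨hfin, h1⟩ := tr_pull_diag_graph hπ hG hpow p q hP j d (prodLift_fst hP _ _) (prodLift_snd hP _ _)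
    (prodLift_fst hP _ _) (prodLift_snd hP _ _) T hQ
  rw [card_fixed_sections_eq f Xb π hπ G m hm hG hpow hfin] at h1
  rw [← h1, ← tr_cl_graph_mul T d p (prodLift_fst hP _ _),
    even_comm T (T.cl_mem Pb _) (T.cl_mem Pb _)]
  rw [tr_graph_diag T G p q hP j d (prodLift_fst hP _ _) (prodLift_snd hP _ _) (prodLift_fst hP _ _) (prodLift_snd hP _ _)]
  refine Finset.sum_congr rfl fun i _ => ?_
  congr 2
  exact LinearMap.ext fun b => Subtype.ext (pullDeg_pow T F (i : ℤ) m b)

theorem reverse_charpoly_ode {V : Type*} [AddCommGroup V] [Module K V] [FiniteDimensional K V] (A : V →ₗ[K] V) :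
    d⁄dX K (A.charpoly.reverse : PowerSeries K) =
        -(PowerSeries.mk fun m => LinearMap.trace K V (A ^ (m + 1))) * (A.charpoly.reverse : PowerSeries K) ∧
      PowerSeries.constantCoeff (A.charpoly.reverse : PowerSeries K) = 1 := by
  classical
  let b := Module.finBasis K V
  let M := LinearMap.toMatrix b b A
  rw [← A.charpoly_toMatrix b, Matrix.reverse_charpoly]
  refine ⟨?_, constantCoeff_charpolyRev _⟩
  have : (PowerSeries.mk fun m => LinearMap.trace K V (A ^ (m + 1))) = trSeries M := by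
    refine PowerSeries.ext fun m => ?_
    rw [trSeries, PowerSeries.coeff_mk, PowerSeries.coeff_mk, LinearMap.trace_eq_matrix_trace K b,
      LinearMap.toMatrix_pow]
  rw [this]
  exact derivative_charpolyRev _

include hle hFapp hπ hF in
theorem zeta_mul_eq (Pb : Var k) (p q : Pb ⟶ Xb) (hP : IsProd p q) :
    PowerSeries.map (algebraMap ℚ K) (Zeta.zetaFun f) *
        (∏ i ∈ Finset.range (dim Xb.obj.left + 1),
          ((LinearMap.charpoly (T.pullDeg F ((2 * i : ℕ) : ℤ))).reverse : PowerSeries K)) =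
      ∏ i ∈ Finset.range (dim Xb.obj.left),
        ((LinearMap.charpoly (T.pullDeg F ((2 * i + 1 : ℕ) : ℤ))).reverse : PowerSeries K) := by
  classical
  have : ∀ r : ℤ, Module.Finite K (T.gr Xb r) := fun r => T.finite Xb r
  set n := dim Xb.obj.left
  let t : ℕ → PowerSeries K := fun r =>
    PowerSeries.mk fun m => LinearMap.trace K (T.gr Xb (r : ℤ)) ((T.pullDeg F (r : ℤ)) ^ (m + 1))
  have hL0 : PowerSeries.constantCoeff (Zeta.logZeta f) = 0 := by
    rw [← PowerSeries.coeff_zero_eq_constantCoeff_apply, Zeta.logZeta, PowerSeries.coeff_mk]; simp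
  obtain ⟨hZ, hZ0⟩ := derivative_exp_subst _ hL0
  have hN : PowerSeries.map (algebraMap ℚ K) (d⁄dX ℚ (Zeta.logZeta f)) =
      (∑ i ∈ Finset.range (n + 1), t (2 * i)) - ∑ i ∈ Finset.range n, t (2 * i + 1) := by
    refine PowerSeries.ext fun m => ?_
    rw [PowerSeries.coeff_map, PowerSeries.coeff_derivative, Zeta.logZeta, PowerSeries.coeff_mk, map_sub, map_sum,
      map_sum, Nat.cast_succ, div_mul_cancel₀ _ (by positivity), map_natCast,
      nPts_eq_trace f FX hle hFapp Xb π hπ F hF T Pb p q hP (m + 1) (by omega)]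
    simp only [t, PowerSeries.coeff_mk]
    have h := prod_range_split (M := Multiplicative K) n (fun i => Multiplicative.ofAdd
      ((-1 : K) ^ i * LinearMap.trace K (T.gr Xb (i : ℤ)) ((T.pullDeg F (i : ℤ)) ^ (m + 1))))
    rw [← ofAdd_sum, ← ofAdd_sum, ← ofAdd_sum, ← ofAdd_add] at h
    rw [← Multiplicative.ofAdd.injective h, sub_eq_add_neg, add_comm, ← Finset.sum_neg_distrib]
    congr 1
    · exact Finset.sum_congr rfl fun i _ => by rw [(even_two_mul i).neg_one_pow, one_mul]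
    · exact Finset.sum_congr rfl fun i _ => by rw [(odd_two_mul_add_one i).neg_one_pow, neg_one_mul]
  refine eq_of_derivative_eq (S := ∑ i ∈ Finset.range n, t (2 * i + 1)) ?_ ?_ ?_ ?_
  · rw [Derivation.leibniz, smul_eq_mul, smul_eq_mul,
      derivative_prod _ (fun i => ((LinearMap.charpoly (T.pullDeg F ((2 * i : ℕ) : ℤ))).reverse : PowerSeries K))
        (fun i => t (2 * i)) (fun i _ => (reverse_charpoly_ode _).1),
      derivative_map, Zeta.zetaFun, hZ, map_mul, hN]
    ring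
  · exact derivative_prod _ (fun i => ((LinearMap.charpoly (T.pullDeg F ((2 * i + 1 : ℕ) : ℤ))).reverse : PowerSeries K))
      (fun i => t (2 * i + 1)) (fun i _ => (reverse_charpoly_ode _).1)
  · rw [map_mul, map_prod, Finset.prod_eq_one fun i _ => (reverse_charpoly_ode _).2, mul_one,
      ← PowerSeries.coeff_zero_eq_constantCoeff_apply, PowerSeries.coeff_map,
      PowerSeries.coeff_zero_eq_constantCoeff_apply, Zeta.zetaFun, hZ0, map_one]
  · rw [map_prod]
    exact Finset.prod_eq_one fun i _ => (reverse_charpoly_ode _).2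

include hle hFapp hπ hF T in
theorem zeta_rational (Pb : Var k) (p q : Pb ⟶ Xb) (hP : IsProd p q) :
    ∃ P Q : Polynomial ℚ, Q ≠ 0 ∧ Zeta.zetaFun f * (Q : PowerSeries ℚ) = (P : PowerSeries ℚ) := by
  classical
  refine exists_rat_polynomial (Zeta.zetaFun f)
    (∏ i ∈ Finset.range (dim Xb.obj.left), (LinearMap.charpoly (T.pullDeg F ((2 * i + 1 : ℕ) : ℤ))).reverse)
    (∏ i ∈ Finset.range (dim Xb.obj.left + 1), (LinearMap.charpoly (T.pullDeg F ((2 * i : ℕ) : ℤ))).reverse) ?_ ?_
  · have : ∀ r : ℤ, Module.Finite K (T.gr Xb r) := fun r => T.finite Xb r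
    exact Finset.prod_ne_zero_iff.2 fun i _ => fun h =>
      one_ne_zero (α := K) ((reverse_charpoly_ode (T.pullDeg F ((2 * i : ℕ) : ℤ))).2.symm.trans (by rw [h]; simp))
  · rw [← Polynomial.coeToPowerSeries.ringHom_apply, ← Polynomial.coeToPowerSeries.ringHom_apply, map_prod, map_prod]
    exact zeta_mul_eq f FX hle hFapp Xb π hπ F hF T Pb p q hP

end Groth.Agent.WeilLib
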