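import Groth.Agent.DimLib.Algebra
import Mathlib.RingTheory.Algebraic.Integral
import Mathlib.Algebra.CharP.Frobenius
import Mathlib.FieldTheory.Perfect
import Mathlib.Algebra.MvPolynomial.Expand
import Mathlib.RingTheory.MvPolynomial.Expand

/-!
# The degree of the Frobenius of a function field

For a perfect field `k` of characteristic `p` and a finitely generated domain `B` over `k` of
dimension `n`, the `p ^ r`-Frobenius of `Frac B` has degree `p ^ (r * n)`.
-/

universe u v w

namespace Groth.Agent.WeilLib

/-- The degree of a ring map. -/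
noncomputable def rdeg {R : Type u} {S : Type v} [CommRing R] [CommRing S] (φ : R →+* S) : ℕ :=
  letI := φ.toAlgebra
  Module.finrank R S

theorem rdeg_algebraMap (R : Type u) (S : Type v) [CommRing R] [CommRing S] [Algebra R S] :
    rdeg (algebraMap R S) = Module.finrank R S := by
  have h : (algebraMap R S).toAlgebra = (inferInstance : Algebra R S) := Algebra.algebra_ext _ _ fun _ => rfl
  rw [rdeg, h]

theorem rdeg_comp {R : Type u} {S : Type v} {T : Type w} [CommRing R] [CommRing S] [CommRing T] [IsDomain T]
    (φ : R →+* S) (ψ : S →+* T) (hψ : Function.Injective ψ) :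
    rdeg (ψ.comp φ) = rdeg φ * rdeg ψ := by
  algebraize [φ, ψ, ψ.comp φ]
  have : FaithfulSMul S T := (faithfulSMul_iff_algebraMap_injective _ _).2 hψ
  rw [show φ = algebraMap R S from rfl, show ψ = algebraMap S T from rfl, rdeg_algebraMap, rdeg_algebraMap,
    show (algebraMap S T).comp (algebraMap R S) = algebraMap R T from rfl, rdeg_algebraMap]
  exact (Module.finrank_mul_finrank' T).symm

theorem rdeg_ringEquiv {R : Type u} {S : Type v} [CommRing R] [CommRing S] [Nontrivial R] [IsDomain S]
    (e : R ≃+* S) : rdeg (e : R →+* S) = 1 := by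
  algebraize [(e : R →+* S)]
  rw [show (e : R →+* S) = algebraMap R S from rfl, rdeg_algebraMap]
  have := (LinearEquiv.ofBijective (Algebra.linearMap R S) e.bijective).finrank_eq
  rwa [Module.finrank_self, eq_comm] at this

theorem rdeg_pos_of_finite {R : Type u} {S : Type v} [CommRing R] [IsDomain R] [CommRing S] [IsDomain S]
    (φ : R →+* S) (hinj : Function.Injective φ) (hfin : φ.Finite) : 0 < rdeg φ := by
  algebraize [φ]
  rw [show φ = algebraMap R S from rfl, rdeg_algebraMap]
  have : FaithfulSMul R S := (faithfulSMul_iff_algebraMap_injective _ _).2 hinj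
  exact Module.finrank_pos

theorem rdeg_fractionRing (R : Type u) (K : Type v) [CommRing R] [IsDomain R] [Field K] [Algebra R K]
    [IsFractionRing R K] : rdeg (algebraMap R K) = 1 := by
  rw [rdeg_algebraMap, ← IsFractionRing.finrank_left_eq R (S := R) K, Module.finrank_self]

theorem rdeg_eq_card {R : Type u} {S : Type v} [CommRing R] [Nontrivial R] [CommRing S] {ι : Type w} [Fintype ι]
    (φ : R →+* S) (b : ι → S) (h : Function.Bijective fun c : ι → R => ∑ i, φ (c i) * b i) :
    rdeg φ = Fintype.card ι := by
  algebraize [φ]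
  rw [show φ = algebraMap R S from rfl, rdeg_algebraMap]
  let L : (ι → R) →ₗ[R] S :=
    { toFun := fun c => ∑ i, φ (c i) * b i
      map_add' := fun a c => by simp [add_mul, Finset.sum_add_distrib]
      map_smul' := fun r c => by
        simp [Finset.mul_sum, Algebra.smul_def, mul_assoc, RingHom.algebraMap_toAlgebra] }
  rw [← (LinearEquiv.ofBijective L h).finrank_eq, Module.finrank_fintype_fun_eq_card]

open MvPolynomial in
/-- The iterated Frobenius of a polynomial ring over a perfect field. -/
theorem rdeg_frobenius_mvPolynomial (k : Type u) [Field k] (p : ℕ) [Fact p.Prime] [CharP k p] [PerfectRing k p]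
    (r n : ℕ) : rdeg (iterateFrobenius (MvPolynomial (Fin n) k) p r) = (p ^ r) ^ n := by
  classical
  have hp : p.Prime := Fact.out
  set q := p ^ r with hqdef
  have hq : 0 < q := pow_pos hp.pos r
  let E : (Fin n → Fin q) → (Fin n →₀ ℕ) := fun e => Finsupp.equivFunOnFinite.symm fun i => (e i : ℕ)
  rw [rdeg_eq_card _ (fun e : Fin n → Fin q => monomial (E e) (1 : k))]
  · simp
  have hF : ∀ f : MvPolynomial (Fin n) k, iterateFrobenius (MvPolynomial (Fin n) k) p r f =
      (expand q f).map (iterateFrobenius k p r) := by
    intro f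
    induction f using MvPolynomial.induction_on with
    | C a => rw [expand_C, map_C, iterateFrobenius_def, iterateFrobenius_def, ← map_pow]
    | add a b ha hb => simp [ha, hb]
    | mul_X a i ha =>
      rw [map_mul, ha, map_mul (expand q), map_mul, expand_X, iterateFrobenius_def, map_pow, map_X]
  let D : (Fin n →₀ ℕ) → (Fin n → Fin q) := fun m i => ⟨m i % q, Nat.mod_lt _ hq⟩
  let A : (Fin n →₀ ℕ) → (Fin n →₀ ℕ) := fun m => Finsupp.equivFunOnFinite.symm fun i => m i / q
  have hdec : ∀ m, q • A m + E (D m) = m := fun m => by
    ext i; simp [A, E, D, Nat.div_add_mod]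
  have huniq : ∀ a e, D (q • a + E e) = e ∧ A (q • a + E e) = a := fun a e => by
    refine ⟨funext fun i => Fin.ext ?_, Finsupp.ext fun i => ?_⟩
    · simp [D, E, Nat.mod_eq_of_lt]
    · simp [A, E, Nat.add_div_of_dvd_right, hq.ne', Nat.div_eq_of_lt]
  have hcoeff : ∀ (c : (Fin n → Fin q) → MvPolynomial (Fin n) k) (m : Fin n →₀ ℕ),
      coeff m (∑ e, iterateFrobenius (MvPolynomial (Fin n) k) p r (c e) * monomial (E e) (1 : k)) =
        coeff (A m) (c (D m)) ^ q := by
    intro c m
    rw [coeff_sum, Finset.sum_eq_single (D m)]
    · have hm := hdec m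
      generalize A m = a, D m = e at hm ⊢
      subst hm
      rw [coeff_mul_monomial, mul_one, hF, coeff_map, coeff_expand_smul q hq.ne', iterateFrobenius_def]
    · intro e _ he
      rw [coeff_mul_monomial']
      split_ifs with hle
      · rw [mul_one, hF, coeff_map]
        by_contra hne
        refine he ?_
        have hne' : coeff (m - E e) (expand q (c e)) ≠ 0 := fun h => hne (by rw [h, map_zero])
        have hdvd : ∀ i, q ∣ (m - E e) i := fun i => by
          by_contra hd
          exact hne' (coeff_expand_of_not_dvd _ hd)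
        refine funext fun i => Fin.ext ?_
        obtain ⟨a, ha⟩ := hdvd i
        have hle' := hle i
        simp only [Finsupp.tsub_apply, E, Finsupp.coe_equivFunOnFinite_symm] at ha hle'
        show (e i : ℕ) = m i % q
        rw [show m i = q * a + (e i : ℕ) by omega, Nat.mul_add_mod, Nat.mod_eq_of_lt (e i).2]
      · rfl
    · simp
  constructor
  · intro c c' h
    refine funext fun e => MvPolynomial.ext _ _ fun a => ?_
    have h2 := congrArg (coeff (q • a + E e)) h
    simp only [hcoeff, (huniq a e).1, (huniq a e).2] at h2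
    exact iterateFrobenius_inj k p r (by rw [iterateFrobenius_def, iterateFrobenius_def]; exact h2)
  · intro f
    let σ := (iterateFrobeniusEquiv k p r).symm
    refine ⟨fun e => ∑ m ∈ f.support with D m = e, monomial (A m) (σ (coeff m f)), MvPolynomial.ext _ _ fun m => ?_⟩
    rw [hcoeff, coeff_sum, Finset.sum_eq_single m]
    · rw [coeff_monomial, if_pos rfl]
      exact (iterateFrobeniusEquiv_def k p r _).symm.trans ((iterateFrobeniusEquiv k p r).apply_symm_apply _)
    · intro m' hm' hne
      rw [coeff_monomial, if_neg]
      intro hA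
      refine hne ?_
      rw [← hdec m', ← hdec m, hA, (Finset.mem_filter.1 hm').2]
    · intro hm
      rw [coeff_monomial, if_pos rfl]
      have : coeff m f = 0 := by simpa using hm
      rw [this, map_zero]

/-- Frobenius of a finitely generated domain. -/
theorem rdeg_frobenius (k : Type u) [Field k] (p : ℕ) [Fact p.Prime] [CharP k p] [PerfectRing k p] (r : ℕ)
    (B : Type u) [CommRing B] [IsDomain B] [Algebra k B] [Algebra.FiniteType k B] [CharP B p]
    (L : Type u) [Field L] [Algebra B L] [IsFractionRing B L] [CharP L p] :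
    rdeg (iterateFrobenius L p r) = (p ^ r) ^ (Algebra.trdeg k B).toNat := by
  obtain ⟨s, g, hinj, hfin, -, hs⟩ := DimLib.exists_normalization (k := k) (A := B)
  rw [hs, Cardinal.toNat_natCast]
  have hB : rdeg (iterateFrobenius B p r) = (p ^ r) ^ s := by
    have hpos := rdeg_pos_of_finite g.toRingHom hinj hfin
    have e : (iterateFrobenius B p r).comp g.toRingHom =
        g.toRingHom.comp (iterateFrobenius (MvPolynomial (Fin s) k) p r) :=
      RingHom.ext fun x => (RingHom.map_iterateFrobenius g.toRingHom p x r).symm
    have e' := congrArg rdeg e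
    rw [rdeg_comp _ _ (iterateFrobenius_inj B p r), rdeg_comp _ _ hinj, rdeg_frobenius_mvPolynomial k p r s,
      mul_comm] at e'
    exact Nat.eq_of_mul_eq_mul_right hpos e'
  have e : (iterateFrobenius L p r).comp (algebraMap B L) = (algebraMap B L).comp (iterateFrobenius B p r) :=
    RingHom.ext fun x => (RingHom.map_iterateFrobenius (algebraMap B L) p x r).symm
  have e' := congrArg rdeg e
  rw [rdeg_comp _ _ (iterateFrobenius_inj L p r), rdeg_comp _ _ (IsFractionRing.injective B L), rdeg_fractionRing,
    one_mul, mul_one, hB] at e'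
  exact e'

end Groth.Agent.WeilLib
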