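import Groth.Prelude.Def_WeilCoh
import Groth.Agent.DimLib.Morphism

/-!
# Morphisms out of spectra of local rings and residue fields
-/

universe u

open CategoryTheory AlgebraicGeometry

namespace Groth.Agent.WeilLib

variable {X Z : Scheme.{u}}

theorem exists_stalk_hom (f : X ⟶ Z) {x : X} {z : Z} (h : f x = z) :
    ∃ φ : Z.presheaf.stalk z ⟶ X.presheaf.stalk x, IsLocalHom φ.hom ∧
      Spec.map φ ≫ Z.fromSpecStalk z = X.fromSpecStalk x ≫ f := by
  subst h
  exact ⟨f.stalkMap x, inferInstance, Scheme.SpecMap_stalkMap_fromSpecStalk f⟩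

theorem stalk_hom_ext {A : CommRingCat.{u}} {z : Z} {φ ψ : Z.presheaf.stalk z ⟶ A}
    (h : Spec.map φ ≫ Z.fromSpecStalk z = Spec.map ψ ≫ Z.fromSpecStalk z) : φ = ψ :=
  Spec.map_injective ((cancel_mono _).1 h)

theorem exists_residue_hom (f : X ⟶ Z) {x : X} {z : Z} (h : f x = z) :
    ∃ φ : Z.residueField z ⟶ X.residueField x,
      Spec.map φ ≫ Z.fromSpecResidueField z = X.fromSpecResidueField x ≫ f := by
  subst h
  exact ⟨f.residueFieldMap x, f.SpecMap_residueFieldMap_fromSpecResidueField x⟩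

theorem residue_hom_ext {A : CommRingCat.{u}} {z : Z} {φ ψ : Z.residueField z ⟶ A}
    (h : Spec.map φ ≫ Z.fromSpecResidueField z = Spec.map ψ ≫ Z.fromSpecResidueField z) : φ = ψ :=
  Spec.map_injective ((cancel_mono _).1 h)

theorem residue_hom_surjective (j : X ⟶ Z) [IsPreimmersion j] {x : X} {z : Z} (h : j x = z)
    {φ : Z.residueField z ⟶ X.residueField x}
    (hφ : Spec.map φ ≫ Z.fromSpecResidueField z = X.fromSpecResidueField x ≫ j) :
    Function.Surjective φ.hom := by
  subst h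
  rw [residue_hom_ext (hφ.trans (j.SpecMap_residueFieldMap_fromSpecResidueField x).symm)]
  exact ((ConcreteCategory.isIso_iff_bijective _).1 (DimLib.isIso_residueFieldMap_of_isPreimmersion j x)).2

/-- Two sections `d`, `j` of `p` agree on the residue field of a point where they meet, if one of
them is an immersion. -/
theorem fromSpecResidueField_comp_eq (j d : X ⟶ Z) (p : Z ⟶ X) (hj : j ≫ p = 𝟙 X) (hd : d ≫ p = 𝟙 X)
    [IsPreimmersion j] {w : X} (h : j w = d w) :
    X.fromSpecResidueField w ≫ d = X.fromSpecResidueField w ≫ j := by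
  obtain ⟨φd, hφd⟩ := exists_residue_hom d (x := w) rfl
  obtain ⟨φj, hφj⟩ := exists_residue_hom j h
  have hp : p (d w) = w := by rw [← Scheme.Hom.comp_apply, hd]; rfl
  obtain ⟨ρ, hρ⟩ := exists_residue_hom p hp
  have h1 : ρ ≫ φd = 𝟙 _ := residue_hom_ext (z := w) (by
    rw [Spec.map_comp, Category.assoc, hρ, ← Category.assoc, hφd, Category.assoc, hd, Spec.map_id,
      Category.id_comp, Category.comp_id])
  have h2 : ρ ≫ φj = 𝟙 _ := residue_hom_ext (z := w) (by
    rw [Spec.map_comp, Category.assoc, hρ, ← Category.assoc, hφj, Category.assoc, hj, Spec.map_id,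
      Category.id_comp, Category.comp_id])
  have hsurj : Function.Surjective ρ.hom := fun b => ⟨φj.hom b, by
    obtain ⟨a, rfl⟩ : ∃ a, ρ.hom a = b := ⟨φj.hom b, φj.hom.injective (by
      show (ρ ≫ φj).hom (φj.hom b) = φj.hom b
      rw [h2]; rfl)⟩
    show ρ.hom ((ρ ≫ φj).hom a) = ρ.hom a
    rw [h2]; rfl⟩
  have : φd = φj := CommRingCat.hom_ext (RingHom.ext fun b => by
    obtain ⟨a, rfl⟩ := hsurj b
    show (ρ ≫ φd).hom a = (ρ ≫ φj).hom a
    rw [h1, h2])
  rw [← hφd, ← hφj, this]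

theorem mem_ker_specMap (j : X ⟶ Z) {w η : X} (hη : η ⤳ w) {z : Z} (hz : j w = z) (h' : j η ⤳ z)
    {φ : Z.presheaf.stalk z ⟶ X.presheaf.stalk w}
    (hφ : Spec.map φ ≫ Z.fromSpecStalk z = X.fromSpecStalk w ≫ j) {a : Z.presheaf.stalk z} (ha : φ.hom a = 0) :
    a ∈ RingHom.ker (Cyc.specMap z (j η) h') := by
  subst hz
  rw [stalk_hom_ext (hφ.trans (Scheme.SpecMap_stalkMap_fromSpecStalk j).symm)] at ha
  rw [RingHom.mem_ker]
  show Z.residue (j η) (Z.presheaf.stalkSpecializes h' a) = 0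
  have h1 : j.stalkMap η (Z.presheaf.stalkSpecializes h' a) = 0 := by
    refine (j.stalkSpecializes_stalkMap_apply η w hη a).trans ?_
    exact (congrArg _ ha).trans (map_zero (X.presheaf.stalkSpecializes hη).hom)
  refine (IsLocalRing.residue_eq_zero_iff _).2 fun hu => ?_
  exact (hu.map (j.stalkMap η).hom).ne_zero h1

end Groth.Agent.WeilLib
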