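import Groth.Agent.WeilLib.FixedPoints
import Groth.Prelude.Def_W4c1zetahwZeta
import Mathlib.FieldTheory.PrimitiveElement
import Mathlib.FieldTheory.Finite.Basic

/-!
# Counting rational points by closed points
-/

universe u v

open CategoryTheory CategoryTheory.Limits AlgebraicGeometry TopologicalSpace

namespace Groth.Agent.WeilLib

open WeilCoh Groth.Agent.DimLib

variable {k₀ : Type u} [Field k₀] {X : Scheme.{u}} (f : X ⟶ Spec (CommRingCat.of k₀))

set_option backward.isDefEq.respectTransparency.types false in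
theorem baseRingHom_id_bijective (y : ↥(Spec (CommRingCat.of k₀))) :
    Function.Bijective (baseRingHom (𝟙 (Spec (CommRingCat.of k₀))) y) := by
  refine ⟨RingHom.injective _, ?_⟩
  have hm : (PrimeSpectrum.asIdeal y).IsMaximal := by
    have := (PrimeSpectrum.asIdeal y).eq_bot_of_prime
    rw [this]; exact Ideal.bot_isMaximal
  have h : CommRingCat.ofHom (baseRingHom (𝟙 (Spec (CommRingCat.of k₀))) y) =
      CommRingCat.ofHom (algebraMap k₀ (PrimeSpectrum.asIdeal y).ResidueField) ≫
        (Scheme.Spec.residueFieldIso (CommRingCat.of k₀) y).inv := by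
    apply Spec.map_injective
    rw [Spec.map_comp, specMap_baseRingHom, Category.comp_id]
    exact (Scheme.Spec.map_residueFieldIso_inv_eq_fromSpecResidueField (CommRingCat.of k₀) y).symm
  intro z
  let e := (Scheme.Spec.residueFieldIso (CommRingCat.of k₀) y).symm.commRingCatIsoToRingEquiv
  obtain ⟨z', rfl⟩ := e.surjective z
  obtain ⟨c', hc'⟩ := (Ideal.bijective_algebraMap_quotient_residueField (PrimeSpectrum.asIdeal y)).2 z'
  obtain ⟨c, rfl⟩ := Ideal.Quotient.mk_surjective c'
  refine ⟨c, ?_⟩
  rw [← hc']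
  exact RingHom.congr_fun (congrArg CommRingCat.Hom.hom h) c

theorem residueDegree_eq_rdeg (x : X) : EGA4loc.residueDegree f x = rdeg (baseRingHom f x) := by
  have h : baseRingHom f x = (f.residueFieldMap x).hom.comp (baseRingHom (𝟙 (Spec (CommRingCat.of k₀))) (f x)) := by
    rw [← baseRingHom_comp, Category.comp_id]
  rw [h, rdeg_comp _ _ (f.residueFieldMap x).hom.injective]
  have h1 : rdeg (baseRingHom (𝟙 (Spec (CommRingCat.of k₀))) (f x)) = 1 :=
    rdeg_ringEquiv (RingEquiv.ofBijective _ (baseRingHom_id_bijective (f x)))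
  rw [h1, one_mul]
  rfl

variable [Finite k₀] {k : Type u} [Field k] [IsAlgClosed k] [Algebra k₀ k]

/-- `Q`-th power on a finite extension of `k₀` is trivial iff the degree divides `m`. -/
theorem forall_pow_card_iff (L : Type u) [Field L] [Algebra k₀ L] [FiniteDimensional k₀ L] (m : ℕ) :
    (∀ a : L, a ^ (Nat.card k₀ ^ m) = a) ↔ Module.finrank k₀ L ∣ m := by
  let := Fintype.ofFinite k₀
  have := Module.finite_of_finite k₀ (M := L)
  have h : ∀ a : L, (FiniteField.frobeniusAlgHom k₀ L ^ m) a = a ^ (Nat.card k₀ ^ m) := fun a => by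
    rw [AlgHom.coe_pow, FiniteField.coe_frobeniusAlgHom, pow_iterate, Nat.card_eq_fintype_card]
  rw [← FiniteField.orderOf_frobeniusAlgHom k₀ L, orderOf_dvd_iff_pow_eq_one]
  exact ⟨fun hm => AlgHom.ext fun a => (h a).trans (hm a), fun hm a => (h a).symm.trans (by rw [hm]; rfl)⟩

theorem finite_hom_of_fixed {m : ℕ} (hm : 1 ≤ m) (x : X) (φ : X.residueField x →+* k)
    (hfix : ∀ a, φ a ^ (Nat.card k₀ ^ m) = φ a) : (baseRingHom f x).Finite := by
  classical
  have hQ : 2 ≤ Nat.card k₀ ^ m :=
    le_trans (Finite.one_lt_card (α := k₀)) (Nat.le_self_pow (by omega) _)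
  have hne : (Polynomial.X ^ (Nat.card k₀ ^ m) - Polynomial.X : Polynomial k) ≠ 0 :=
    (Polynomial.monic_X_pow_sub (by rw [Polynomial.degree_X]; exact_mod_cast hQ)).ne_zero
  have : Finite (X.residueField x) := Finite.of_injective
    (fun a => (⟨φ a, by
      rw [Finset.mem_coe, Multiset.mem_toFinset, Polynomial.mem_roots hne]; simp [hfix a]⟩ :
      ((Polynomial.X ^ (Nat.card k₀ ^ m) - Polynomial.X : Polynomial k).roots.toFinset : Set k)))
    fun a b h => φ.injective (congrArg Subtype.val h)
  let := (baseRingHom f x).toAlgebra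
  exact Module.Finite.of_finite (R := k₀) (M := X.residueField x)

theorem isClosed_of_finite [LocallyOfFiniteType f] (x : X) (h : (baseRingHom f x).Finite) :
    IsClosed ({x} : Set X) :=
  (ptDim_eq_zero_iff f x).1 (trdegHom_eq_zero_of_finite _ h)

set_option backward.isDefEq.respectTransparency.types false in
theorem card_fixed_sections_eq [LocallyOfFiniteType f] (Xb : Var k) (π : Xb.obj.left ⟶ X)
    (hπ : IsPullback π Xb.obj.hom f (Spec.map (CommRingCat.ofHom (algebraMap k₀ k))))
    (G : Xb ⟶ Xb) (m : ℕ) (hm : 1 ≤ m) (hG : IsFrobLike Xb π G (Nat.card k₀ ^ m))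
    (hpow : HasPower k (Nat.card k₀ ^ m))
    (hfin : Finite {P : Spec (CommRingCat.of k) ⟶ Xb.obj.left // P ≫ Xb.obj.hom = 𝟙 _ ∧ P ≫ sm G = P}) :
    Nat.card {P : Spec (CommRingCat.of k) ⟶ Xb.obj.left // P ≫ Xb.obj.hom = 𝟙 _ ∧ P ≫ sm G = P} =
      Zeta.nPts f m := by
  classical
  let S := {x : X // IsClosed ({x} : Set X) ∧ EGA4loc.residueDegree f x ∣ m}
  have hfinite : ∀ x : S, (baseRingHom f x.1).Finite := fun x => by
    let := (baseRingHom f x.1).toAlgebra
    refine Module.finite_of_finrank_pos (R := k₀) (M := X.residueField x.1) ?_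
    have h : EGA4loc.residueDegree f x.1 = Module.finrank k₀ (X.residueField x.1) := by
      rw [residueDegree_eq_rdeg]; rfl
    rw [← h]
    exact Nat.pos_of_dvd_of_pos x.2.2 hm
  let C : S → Type u := fun x => {φ : X.residueField x.1 →+* k // φ.comp (baseRingHom f x.1) = algebraMap k₀ k}
  have hcardC : ∀ x : S, Nat.card (C x) = EGA4loc.residueDegree f x.1 := fun x => by
    let := (baseRingHom f x.1).toAlgebra
    have : Module.Finite k₀ (X.residueField x.1) := hfinite x
    let e : C x ≃ (X.residueField x.1 →ₐ[k₀] k) :=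
      { toFun := fun φ => { toRingHom := φ.1, commutes' := fun c => RingHom.congr_fun φ.2 c }
        invFun := fun ψ => ⟨ψ.toRingHom, RingHom.ext ψ.commutes⟩
        left_inv := fun φ => rfl
        right_inv := fun ψ => rfl }
    rw [Nat.card_congr e, Nat.card_eq_fintype_card, AlgHom.card, residueDegree_eq_rdeg]
    rfl
  obtain ⟨φk, hφk⟩ := hpow k (RingHom.id k)
  have hbase : ∀ (x : X) (φ : X.residueField x →+* k), φ.comp (baseRingHom f x) = algebraMap k₀ k →
      (Spec.map (CommRingCat.ofHom φ) ≫ X.fromSpecResidueField x) ≫ f =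
        𝟙 _ ≫ Spec.map (CommRingCat.ofHom (algebraMap k₀ k)) := fun x φ h => by
    rw [Category.id_comp, Category.assoc, ← specMap_baseRingHom f x, ← Spec.map_comp, ← h]
    rfl
  let toP : (Σ x : S, C x) → {P : Spec (CommRingCat.of k) ⟶ Xb.obj.left // P ≫ Xb.obj.hom = 𝟙 _ ∧ P ≫ sm G = P} :=
    fun σ => ⟨hπ.lift (Spec.map (CommRingCat.ofHom σ.2.1) ≫ X.fromSpecResidueField σ.1.1) (𝟙 _) (hbase _ _ σ.2.2),
      hπ.lift_snd _ _ _, by
        obtain ⟨x, φ, hφ⟩ := σ
        refine hπ.hom_ext ?_ ?_
        · rw [Category.assoc, hG (CommRingCat.of k) φk hφk, hπ.lift_fst, ← Category.assoc, ← Spec.map_comp]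
          congr 2
          let := (baseRingHom f x.1).toAlgebra
          have : Module.Finite k₀ (X.residueField x.1) := hfinite x
          refine CommRingCat.hom_ext (RingHom.ext fun a => ?_)
          show φk (φ a) = φ a
          rw [hφk, ← map_pow]
          congr 1
          refine (forall_pow_card_iff (X.residueField x.1) m).2 ?_ a
          have h : EGA4loc.residueDegree f x.1 = Module.finrank k₀ (X.residueField x.1) := by
            rw [residueDegree_eq_rdeg]; rfl
          rw [← h]; exact x.2.2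
        · rw [Category.assoc, show sm G ≫ Xb.obj.hom = Xb.obj.hom from Over.w G.hom]⟩
  have hbij : Function.Bijective toP := by
    constructor
    · rintro ⟨x, φ⟩ ⟨y, ψ⟩ h
      have h1 : Spec.map (CommRingCat.ofHom φ.1) ≫ X.fromSpecResidueField x.1 =
          Spec.map (CommRingCat.ofHom ψ.1) ≫ X.fromSpecResidueField y.1 := by
        have h0 := congrArg (fun P => P.1 ≫ π) h
        simpa [toP] using h0
      have hxy : x = y := Subtype.ext (by
        have h2 := congrArg (fun g : Spec (CommRingCat.of k) ⟶ X => g (cpt k)) h1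
        exact ((X.fromSpecResidueField_apply x.1 _).symm.trans h2).trans (X.fromSpecResidueField_apply y.1 _))
      subst hxy
      have : φ = ψ := Subtype.ext (congrArg CommRingCat.Hom.hom (residue_hom_ext h1))
      rw [this]
    · rintro ⟨P, hP1, hP2⟩
      obtain ⟨x, φ, hφ⟩ : ∃ (x : X) (φ : X.residueField x →+* k),
          Spec.map (CommRingCat.ofHom φ) ≫ X.fromSpecResidueField x = P ≫ π := by
        refine ⟨_, (X.descResidueField (Scheme.stalkClosedPointTo (P ≫ π))).hom, ?_⟩
        exact Scheme.descResidueField_stalkClosedPointTo_fromSpecResidueField k X (P ≫ π)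
      have hcomp : φ.comp (baseRingHom f x) = algebraMap k₀ k := by
        have h : CommRingCat.ofHom (baseRingHom f x) ≫ CommRingCat.ofHom φ = CommRingCat.ofHom (algebraMap k₀ k) := by
          apply Spec.map_injective
          rw [Spec.map_comp, specMap_baseRingHom, ← Category.assoc, hφ, Category.assoc, hπ.w, ← Category.assoc, hP1,
            Category.id_comp]
        exact congrArg CommRingCat.Hom.hom h
      have hfix : ∀ a, φ a ^ (Nat.card k₀ ^ m) = φ a := fun a => by
        have h : CommRingCat.ofHom φ ≫ CommRingCat.ofHom φk = CommRingCat.ofHom φ := by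
          refine residue_hom_ext ?_
          rw [Spec.map_comp, Category.assoc, hφ, ← hG (CommRingCat.of k) φk hφk, ← Category.assoc, hP2]
        exact (hφk _).symm.trans (RingHom.congr_fun (congrArg CommRingCat.Hom.hom h) a)
      have hf := finite_hom_of_fixed f hm x φ hfix
      have hdvd : EGA4loc.residueDegree f x ∣ m := by
        let := (baseRingHom f x).toAlgebra
        have : Module.Finite k₀ (X.residueField x) := hf
        rw [residueDegree_eq_rdeg]
        exact (forall_pow_card_iff (X.residueField x) m).1 fun a => φ.injective (by rw [map_pow]; exact hfix a)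
      refine ⟨⟨⟨x, isClosed_of_finite f x hf, hdvd⟩, ⟨φ, hcomp⟩⟩, Subtype.ext (hπ.hom_ext ?_ ?_)⟩
      · exact (hπ.lift_fst _ _ _).trans hφ
      · exact (hπ.lift_snd _ _ _).trans hP1.symm
  have hfinσ : Finite (Σ x : S, C x) := Finite.of_injective toP hbij.1
  have hne : ∀ x : S, Nonempty (C x) := fun x => by
    by_contra h
    rw [not_nonempty_iff] at h
    have := hcardC x
    rw [Nat.card_of_isEmpty] at this
    exact (Nat.pos_of_dvd_of_pos x.2.2 hm).ne this
  have hfinS : Finite S := Finite.of_surjective (Sigma.fst : (Σ x : S, C x) → S)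
    fun x => (hne x).elim fun c => ⟨⟨x, c⟩, rfl⟩
  have hfinC : ∀ x : S, Finite (C x) := fun x => Finite.of_injective (fun c => (⟨x, c⟩ : Σ x : S, C x))
    fun a b h => eq_of_heq (Sigma.mk.inj h).2
  let := Fintype.ofFinite S
  rw [← Nat.card_eq_of_bijective toP hbij, Nat.card_sigma, Finset.sum_congr rfl fun x _ => hcardC x]
  unfold Zeta.nPts
  rw [← Finset.sum_fiberwise_of_maps_to (g := fun x : S => EGA4loc.residueDegree f x.1) (t := m.divisors)
    fun x _ => Nat.mem_divisors.2 ⟨x.2.2, by omega⟩]
  refine Finset.sum_congr rfl fun e he => ?_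
  rw [Finset.sum_congr rfl fun x hx => (Finset.mem_filter.1 hx).2, Finset.sum_const, smul_eq_mul, mul_comm]
  congr 1
  unfold Zeta.degCount
  rw [← Fintype.card_subtype, ← Nat.card_eq_fintype_card]
  exact Nat.card_congr
    { toFun := fun x => ⟨x.1.1, x.1.2.1, x.2⟩
      invFun := fun x => ⟨⟨x.1, x.2.1, by rw [x.2.2]; exact Nat.dvd_of_mem_divisors he⟩, x.2.2⟩
      left_inv := fun x => rfl
      right_inv := fun x => rfl }

end Groth.Agent.WeilLib
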