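import Groth.Agent.WeilLib.Formal
import Mathlib.AlgebraicGeometry.FunctionField

/-!
# Classes of points, traces and push-forwards for a Weil cohomology theory
-/

universe u v

open CategoryTheory CategoryTheory.Limits AlgebraicGeometry TopologicalSpace

namespace Groth.Agent.WeilLib

open WeilCoh

variable {k : Type u} [Field k] [IsAlgClosed k] {K : Type v} [Field K] [CharZero K] (T : Theory k K)

theorem length_field (R : Type u) [CommRing R] (h : IsField R) : Module.length R R = 1 := by
  let := h.toField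
  exact Module.length_eq_one R R

theorem preimMult_toPt (X : Var k) (h : sm (toPt X) (genericPoint X.obj.left) ∈
    closure ({sm (toPt X) (genericPoint X.obj.left)} : Set (pt X).obj.left)) :
    preimMult (sm (toPt X)) (sm (toPt X) (genericPoint X.obj.left)) (genericPoint X.obj.left) h = 1 := by
  have := isIntegral_var X
  have hR : IsField (X.obj.left.presheaf.stalk (genericPoint X.obj.left)) :=
    @Field.toIsField X.obj.left.functionField inferInstance
  unfold preimMult
  let := hR.toField
  rcases (Ideal.eq_bot_or_top (Ideal.map ((sm (toPt X)).stalkMap (genericPoint X.obj.left)).hom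
      (RingHom.ker (Cyc.specMap (sm (toPt X) (genericPoint X.obj.left))
        (sm (toPt X) (genericPoint X.obj.left)) (specializes_iff_mem_closure.mpr h))))) with e | e
  · rw [e, (Submodule.quotEquivOfEqBot _ rfl).length_eq, Module.length_eq_one]; rfl
  · exfalso
    have hle : RingHom.ker (Cyc.specMap (sm (toPt X) (genericPoint X.obj.left))
        (sm (toPt X) (genericPoint X.obj.left)) (specializes_iff_mem_closure.mpr h)) ≤
        IsLocalRing.maximalIdeal _ := IsLocalRing.le_maximalIdeal (RingHom.ker_ne_top _)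
    have h2 := Ideal.map_mono (f := ((sm (toPt X)).stalkMap (genericPoint X.obj.left)).hom) hle
    rw [e] at h2
    have h3 : Ideal.map ((sm (toPt X)).stalkMap (genericPoint X.obj.left)).hom (IsLocalRing.maximalIdeal _) ≤
        IsLocalRing.maximalIdeal _ := by
      have hl : IsLocalHom ((sm (toPt X)).stalkMap (genericPoint X.obj.left)).hom := inferInstance
      exact ((IsLocalRing.local_hom_TFAE ((sm (toPt X)).stalkMap (genericPoint X.obj.left)).hom).out 0 2).1 hl
    exact (IsLocalRing.maximalIdeal.isMaximal _).ne_top (top_le_iff.1 (h2.trans h3))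

theorem cl_pt (X : Var k) (ξ : (pt X).obj.left) : T.cl (pt X) ξ = 1 := (T.point (pt X) (dim_pt X)).1 ξ

theorem tr_pt (X : Var k) : T.tr (pt X) 1 = 1 := (T.point (pt X) (dim_pt X)).2

theorem subsingleton_pt (X : Var k) : Subsingleton (pt X).obj.left :=
  inferInstanceAs (Subsingleton (PrimeSpectrum k))

theorem isCompPt_univ_iff (X : Var k) (w : X.obj.left) :
    IsCompPt (Set.univ : Set X.obj.left) w ↔ w = genericPoint X.obj.left :=
  ⟨fun h => (h.2 _ trivial (genericPoint_specializes w)).symm,
    fun h => ⟨trivial, fun w' _ hw' => by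
      subst h; exact hw'.antisymm (genericPoint_specializes w') |>.eq⟩⟩

theorem cl_genericPoint (X : Var k) : T.cl X (genericPoint X.obj.left) = 1 := by
  have := subsingleton_pt X
  have hpre : (sm (toPt X)) ⁻¹' closure ({sm (toPt X) (genericPoint X.obj.left)} : Set (pt X).obj.left) =
      Set.univ := Set.eq_univ_of_forall fun w => subset_closure (Subsingleton.elim (α := (pt X).obj.left) _ _)
  have hmem : IsCompPt ((sm (toPt X)) ⁻¹' closure
      ({sm (toPt X) (genericPoint X.obj.left)} : Set (pt X).obj.left)) (genericPoint X.obj.left) := by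
    rw [hpre]; exact (isCompPt_univ_iff X _).2 rfl
  have huniq : ∀ w : {w : X.obj.left // IsCompPt ((sm (toPt X)) ⁻¹' closure
      ({sm (toPt X) (genericPoint X.obj.left)} : Set (pt X).obj.left)) w},
      w = ⟨genericPoint X.obj.left, hmem⟩ := fun w => by
    have hw : IsCompPt (Set.univ : Set X.obj.left) w.1 := Eq.mp (congrArg (fun S => IsCompPt S w.1) hpre) w.2
    rw [isCompPt_univ_iff] at hw
    exact Subtype.ext hw
  have h := T.cl_pull (toPt X) (sm (toPt X) (genericPoint X.obj.left)) ?_ ?_
  · rw [cl_pt, map_one, finsum_eq_single _ ⟨_, hmem⟩ (fun w hw => absurd (huniq w) hw)] at h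
    rw [preimMult_toPt X hmem.1, Nat.cast_one, one_smul] at h
    exact h.symm
  · intro w hw
    rw [hpre, isCompPt_univ_iff] at hw
    subst hw
    have h0 := pdim_le_dim (pt X) (sm (toPt X) (genericPoint X.obj.left))
    rw [dim_pt] at h0
    rw [pdim_genericPoint, dim_pt]
    omega
  · refine Or.inl ⟨⊤, fun _ _ => trivial, ?_⟩
    have : Flat (sm (toPt X)) := inferInstanceAs (Flat X.obj.hom)
    exact MorphismProperty.of_isPullback (isPullback_morphismRestrict _ _).flip this

theorem residueDegree_toPt (X : Var k) {x : X.obj.left} (hx : IsClosed ({x} : Set X.obj.left)) :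
    (sm (toPt X)).residueDegree x = 1 := residueDegree_hom_of_isClosed X hx

theorem tr_cl_closedPoint (X : Var k) {x : X.obj.left} (hx : IsClosed ({x} : Set X.obj.left)) :
    T.tr X (T.cl X x) = 1 := by
  have h := T.cl_push (toPt X) x 1 (by rw [(pdim_eq_zero_iff X x).2 hx]; exact one_mem T _)
  rwa [map_one, mul_one, residueDegree_toPt X hx, cl_pt, mul_one, tr_pt, Nat.cast_one, mul_one] at h

theorem tr_pull_of_dominant {X Y : Var k} (f : X ⟶ Y)
    (hdom : sm f (genericPoint X.obj.left) = genericPoint Y.obj.left)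
    (hdim : dim X.obj.left = dim Y.obj.left) (a : T.H Y) (ha : a ∈ T.gr Y (2 * (dim Y.obj.left : ℤ))) :
    T.tr X (T.pull f a) = ((sm f).residueDegree (genericPoint X.obj.left) : K) * T.tr Y a := by
  have h := T.cl_push f (genericPoint X.obj.left) a (by rw [pdim_genericPoint, hdim]; exact ha)
  rwa [cl_genericPoint, one_mul, hdom, cl_genericPoint, one_mul] at h

theorem push_cl {X Y : Var k} (f : X ⟶ Y) (ξ : X.obj.left) :
    (T.push f (2 * (codim X.obj.left ξ : ℤ)) ⟨T.cl X ξ, T.cl_mem X ξ⟩ : T.H Y) =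
      ((sm f).residueDegree ξ : K) • T.cl Y (sm f ξ) := by
  have hc := codim_add_pdim X ξ
  by_cases hd : (sm f).residueDegree ξ = 0
  · rw [hd, Nat.cast_zero, zero_smul]
    refine push_eq T f _ _ (zero_mem _) fun b hb => ?_
    rw [T.cl_push f ξ b (by convert hb using 2; omega), hd, Nat.cast_zero, zero_mul, zero_mul, map_zero]
  · have hp := pdim_map_of_residueDegree f ξ hd
    have hc' := codim_add_pdim Y (sm f ξ)
    refine push_eq T f _ _ (Submodule.smul_mem _ _ ?_) fun b hb => ?_
    · convert T.cl_mem Y (sm f ξ) using 2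
      omega
    · rw [T.cl_push f ξ b (by convert hb using 2; omega), smul_mul_assoc, map_smul]; rfl

theorem push_fst_pull_snd {X Y Q : Var k} (p : Q ⟶ X) (q : Q ⟶ Y) (hQ : IsProd p q) (i : ℤ)
    (a : T.gr Y i) :
    (i = 2 * (dim Y.obj.left : ℤ) →
      (T.push p i ⟨T.pull q a, T.pull_mem q i a a.2⟩ : T.H X) = algebraMap K (T.H X) (T.tr Y a)) ∧
    (i ≠ 2 * (dim Y.obj.left : ℤ) →
      (T.push p i ⟨T.pull q a, T.pull_mem q i a a.2⟩ : T.H X) = 0) := by
  have hd := dim_prod T p q hQ
  constructor
  · intro hi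
    refine push_eq T p i _ ?_ fun b hb => ?_
    · rw [Algebra.algebraMap_eq_smul_one, show i + 2 * (dim X.obj.left : ℤ) - 2 * (dim Q.obj.left : ℤ) = 0 by omega]
      exact Submodule.smul_mem _ _ (one_mem T X)
    · change T.tr Q (T.pull q a * T.pull p b) = _
      rw [even_comm T (c := (dim Y.obj.left : ℤ)) (T.pull_mem q _ _ (hi ▸ a.2)) (T.pull_mem p _ _ hb),
        tr_prod_eq T p q hQ hb a.2, Algebra.algebraMap_eq_smul_one, smul_mul_assoc, one_mul, map_smul,
        smul_eq_mul, mul_comm]
  · intro hi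
    refine push_eq T p i _ (zero_mem _) fun b hb => ?_
    rw [zero_mul, map_zero]
    change T.tr Q (T.pull q a * T.pull p b) = 0
    rw [T.gradedComm Q _ _ _ _ (T.pull_mem q _ _ a.2) (T.pull_mem p _ _ hb), map_smul,
      tr_prod_eq T p q hQ hb a.2, T.tr_vanish Y i _ a.2 hi, mul_zero, smul_zero]

theorem residueDegree_section {X P : Var k} (j : X ⟶ P) (p : P ⟶ X) (hjp : j ≫ p = 𝟙 X) (x : X.obj.left) :
    (sm j).residueDegree x = 1 :=
  have := isClosedImmersion_section j p hjp
  residueDegree_preimmersion (sm j) x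

theorem pdim_section {X P : Var k} (j : X ⟶ P) (p : P ⟶ X) (hjp : j ≫ p = 𝟙 X) (x : X.obj.left) :
    pdim P.obj.left (sm j x) = pdim X.obj.left x :=
  pdim_map_of_residueDegree j x (by rw [residueDegree_section j p hjp x]; exact one_ne_zero)

theorem sm_comp_apply {X Y Z : Var k} (f : X ⟶ Y) (g : Y ⟶ Z) (x : X.obj.left) :
    sm (f ≫ g) x = sm g (sm f x) := rfl

/-- Integrating against the class of a section's image. -/
theorem tr_cl_section_mul {X P : Var k} (j : X ⟶ P) (p : P ⟶ X) (hjp : j ≫ p = 𝟙 X) (x : X.obj.left)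
    (a : T.H P) : T.tr P (T.cl P (sm j x) * a) = T.tr X (T.cl X x * T.pull j a) := by
  refine homogeneous_induction T (motive := fun a => T.tr P (T.cl P (sm j x) * a) = T.tr X (T.cl X x * T.pull j a)) a
    (by simp) (fun a b ha hb => by simp [mul_add, ha, hb]) fun i a ha => ?_
  have h := pdim_section j p hjp x
  have hcP := codim_add_pdim P (sm j x)
  have hcX := codim_add_pdim X x
  by_cases hi : i = 2 * (pdim X.obj.left x : ℤ)
  · rw [T.cl_push j x a (hi ▸ ha), residueDegree_section j p hjp x, Nat.cast_one, one_mul]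
  · rw [tr_mul_eq_zero_of_ne T (T.cl_mem P _) ha (by omega),
      tr_mul_eq_zero_of_ne T (T.cl_mem X _) (T.pull_mem j _ _ ha) (by omega)]

theorem tr_cl_graph_mul {X P : Var k} (j : X ⟶ P) (p : P ⟶ X) (hjp : j ≫ p = 𝟙 X) (a : T.H P) :
    T.tr P (T.cl P (sm j (genericPoint X.obj.left)) * a) = T.tr X (T.pull j a) := by
  rw [tr_cl_section_mul T j p hjp, cl_genericPoint, one_mul]

theorem cl_graph_mem {X P : Var k} (j : X ⟶ P) (p : P ⟶ X) (hjp : j ≫ p = 𝟙 X) :
    T.cl P (sm j (genericPoint X.obj.left)) ∈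
      T.gr P (2 * ((dim P.obj.left : ℤ) - (dim X.obj.left : ℤ))) := by
  have h := T.cl_mem P (sm j (genericPoint X.obj.left))
  have h1 := codim_add_pdim P (sm j (genericPoint X.obj.left))
  rw [pdim_section j p hjp, pdim_genericPoint] at h1
  convert h using 2
  omega

theorem pull_eq_push_graph {X Y P : Var k} (f : X ⟶ Y) (p : P ⟶ X) (q : P ⟶ Y) (_hP : IsProd p q)
    (j : X ⟶ P) (hjp : j ≫ p = 𝟙 X) (hjq : j ≫ q = f) (i : ℤ) (β : T.gr Y i) :
    (T.push p (2 * (codim P.obj.left (sm j (genericPoint X.obj.left)) : ℤ) + i)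
        ⟨T.cl P (sm j (genericPoint X.obj.left)) * T.pull q (β : T.H Y),
          SetLike.mul_mem_graded (T.cl_mem P (sm j (genericPoint X.obj.left)))
            (T.pull_mem q i β β.2)⟩ : T.H X) = T.pull f (β : T.H Y) := by
  have h1 := codim_add_pdim P (sm j (genericPoint X.obj.left))
  rw [pdim_section j p hjp, pdim_genericPoint] at h1
  refine push_eq T p _ _ ?_ fun b _ => ?_
  · convert T.pull_mem f i _ β.2 using 2
    omega
  · change T.tr P (T.cl P _ * T.pull q β * T.pull p b) = _
    rw [mul_assoc, tr_cl_graph_mul T j p hjp, map_mul, ← pull_comp_apply, ← pull_comp_apply, hjp, hjq,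
      pull_id_apply]

theorem push_diagonal_mul {X P : Var k} (p q : P ⟶ X) (d : X ⟶ P) (hdp : d ≫ p = 𝟙 X) (hdq : d ≫ q = 𝟙 X)
    (η : X.obj.left) (i : ℤ) (a : T.gr X i) :
    (T.push q (i + 2 * (codim P.obj.left (sm d η) : ℤ))
        ⟨T.pull p (a : T.H X) * T.cl P (sm d η),
          SetLike.mul_mem_graded (T.pull_mem p i a a.2) (T.cl_mem P (sm d η))⟩ : T.H X) =
      (a : T.H X) * T.cl X η := by
  have h1 := codim_add_pdim P (sm d η)
  have h2 := codim_add_pdim X η
  rw [pdim_section d p hdp] at h1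
  refine push_eq T q _ _ (mul_mem T a.2 (T.cl_mem X η) (by omega)) fun b _ => ?_
  change T.tr P (T.pull p a * T.cl P (sm d η) * T.pull q b) = _
  rw [← even_comm T (T.cl_mem P (sm d η)) (T.pull_mem p _ _ a.2), mul_assoc, tr_cl_section_mul T d p hdp,
    map_mul (T.pull d), ← pull_comp_apply, ← pull_comp_apply, hdp, hdq, pull_id_apply, pull_id_apply, ← mul_assoc,
    even_comm T (T.cl_mem X η) a.2]

end Groth.Agent.WeilLib
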