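import Groth.Agent.WeilLib.Lefschetz

/-!
# Correspondences acting on cohomology
-/

universe u v

open CategoryTheory AlgebraicGeometry

namespace Groth.Agent.WeilLib

open WeilCoh

variable {k : Type u} [Field k] [IsAlgClosed k] {K : Type v} [Field K] [CharZero K] (T : Theory k K)
variable {X Y Q : Var k} (p : Q ⟶ X) (q : Q ⟶ Y)

/-- The action `x ↦ q_*(p^* x ∪ φ)`. -/
noncomputable def act {l : ℤ} (φ : T.gr Q l) (i : ℤ) :
    T.gr X i →ₗ[K] T.gr Y (i + l + 2 * (dim Y.obj.left : ℤ) - 2 * (dim Q.obj.left : ℤ)) :=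
  (T.push q (i + l)) ∘ₗ
    ((LinearMap.mulRight K (φ : T.H Q)).restrict (p := T.gr Q i) (q := T.gr Q (i + l))
      (fun x hx => SetLike.mul_mem_graded hx φ.2)) ∘ₗ
    (T.pullDeg p i)

theorem tr_act {l : ℤ} (φ : T.gr Q l) (i : ℤ) (x : T.gr X i) (b : T.H Y) :
    T.tr Y ((act T p q φ i x : T.H Y) * b) = T.tr Q (T.pull p (x : T.H X) * (φ : T.H Q) * T.pull q b) :=
  (tr_action T q (i + l) _ b).symm

/-- A class is recovered from the actions by dual bases. -/
theorem eq_sum_act (hQ : IsProd p q) {l : ℤ} (φ : T.gr Q l) (ι : ℕ → Type) [∀ r, Fintype (ι r)]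
    [∀ r, DecidableEq (ι r)] (e : (r : ℕ) → Module.Basis (ι r) K (T.gr X (r : ℤ)))
    (f : (r : ℕ) → ι r → T.gr X (2 * (dim X.obj.left : ℤ) - r))
    (hef : ∀ r, ∀ i a : ι r, T.tr X ((f r a : T.H X) * (e r i : T.H X)) = if i = a then 1 else 0) :
    (φ : T.H Q) = ∑ r ∈ Finset.range (2 * dim X.obj.left + 1), ∑ a : ι r, (-1 : K) ^ r •
      (T.pull p (f r a : T.H X) * T.pull q (act T p q φ (r : ℤ) (e r a) : T.H Y)) := by
  classical
  have hd := dim_prod T p q hQ
  have hmem : ∀ (r : ℕ) (a : ι r),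
      T.pull p (f r a : T.H X) * T.pull q (act T p q φ (r : ℤ) (e r a) : T.H Y) ∈ T.gr Q l := fun r a =>
    pull_mul_mem T p q (f r a).2 (act T p q φ (r : ℤ) (e r a)).2 (by omega)
  rw [← sub_eq_zero]
  refine isAction_unique T p q hQ (sub_mem φ.2 (Submodule.sum_mem _ fun r _ => Submodule.sum_mem _ fun a _ =>
    Submodule.smul_mem _ _ (hmem r a))) fun i x hx b => ?_
  rw [mul_sub, sub_mul, map_sub, sub_eq_zero]
  simp only [Finset.mul_sum, Finset.sum_mul, map_sum, mul_smul_comm, smul_mul_assoc, map_smul, smul_eq_mul]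
  have hterm : ∀ (r : ℕ) (a : ι r),
      T.tr Q (T.pull p x * (T.pull p (f r a : T.H X) * T.pull q (act T p q φ (r : ℤ) (e r a) : T.H Y)) * T.pull q b) =
      T.tr X (x * (f r a : T.H X)) * T.tr Y ((act T p q φ (r : ℤ) (e r a) : T.H Y) * b) := by
    intro r a
    rw [← mul_assoc, ← map_mul, tr_pull_mul_pull T p q hQ (SetLike.mul_mem_graded hx (f r a).2)
      (act T p q φ (r : ℤ) (e r a)).2]
  simp only [hterm]
  by_cases hx0 : x = 0
  · simp [hx0]
  have hsome : 0 ≤ i ∧ i ≤ 2 * (dim X.obj.left : ℤ) := by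
    by_contra h
    exact hx0 ((Submodule.mem_bot K).1 (T.vanish X i (by omega) ▸ hx))
  obtain ⟨r, rfl⟩ : ∃ r : ℕ, i = r := ⟨i.toNat, by omega⟩
  rw [Finset.sum_eq_single r]
  · have hexp : (∑ a, T.tr X ((f r a : T.H X) * x) • e r a) = (⟨x, hx⟩ : T.gr X (r : ℤ)) := by
      refine Subtype.ext ?_
      rw [Submodule.coe_sum]
      exact eq_sum_dual T (e r) (f r) (hef r) ⟨x, hx⟩
    rw [← tr_act T p q φ r ⟨x, hx⟩ b, ← hexp, map_sum, Submodule.coe_sum, Finset.sum_mul, map_sum]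
    refine Finset.sum_congr rfl fun a _ => ?_
    rw [map_smul, Submodule.coe_smul, smul_mul_assoc, map_smul, smul_eq_mul,
      T.gradedComm X (2 * (dim X.obj.left : ℤ) - r) r (f r a : T.H X) x (f r a).2 hx, map_smul, smul_eq_mul,
      neg_one_pow_natAbs_mul _ _ ⟨dim X.obj.left, by omega⟩,
      neg_one_pow_natAbs_eq (2 * (dim X.obj.left : ℤ) - r) r ⟨dim X.obj.left, by omega⟩, Int.natAbs_natCast,
      mul_assoc]
  · intro r' _ hne
    refine Finset.sum_eq_zero fun a _ => ?_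
    rw [tr_mul_eq_zero_of_ne T hx (f r' a).2 (by omega), zero_mul, mul_zero]
  · intro h
    simp only [Finset.mem_range] at h
    omega

theorem act_bijective (hQ : IsProd p q) (l : ℤ) :
    Function.Bijective (fun φ : T.gr Q l => fun i : ℤ => act T p q φ i) := by
  classical
  have hd := dim_prod T p q hQ
  obtain ⟨ι, _, _, e, f, hef⟩ := exists_bases T X
  constructor
  · intro φ φ' h
    refine Subtype.ext ?_
    rw [eq_sum_act T p q hQ φ ι e f hef, eq_sum_act T p q hQ φ' ι e f hef]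
    simp only at h
    simp only [fun i => congrFun h i]
  · intro L
    let c : T.H Q := ∑ r ∈ Finset.range (2 * dim X.obj.left + 1), ∑ a : ι r, (-1 : K) ^ r •
      (T.pull p (f r a : T.H X) * T.pull q (L (r : ℤ) (e r a) : T.H Y))
    have hc : c ∈ T.gr Q l := Submodule.sum_mem _ fun r _ => Submodule.sum_mem _ fun a _ =>
      Submodule.smul_mem _ _ (pull_mul_mem T p q (f r a).2 (L (r : ℤ) (e r a)).2 (by omega))
    refine ⟨⟨c, hc⟩, funext fun i => LinearMap.ext fun x => Subtype.ext ?_⟩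
    refine eq_of_tr_mul_right T (j := 2 * (dim Q.obj.left : ℤ) - (i + l)) (by omega) (act T p q _ i x).2 (L i x).2
      fun b hb => ?_
    rw [tr_act]
    change T.tr Q (T.pull p (x : T.H X) * c * T.pull q b) = _
    simp only [c, Finset.mul_sum, Finset.sum_mul, map_sum, mul_smul_comm, smul_mul_assoc, map_smul,
      smul_eq_mul]
    have hterm : ∀ (r : ℕ) (a : ι r),
        T.tr Q (T.pull p (x : T.H X) * (T.pull p (f r a : T.H X) * T.pull q (L (r : ℤ) (e r a) : T.H Y)) * T.pull q b) =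
        T.tr X ((x : T.H X) * (f r a : T.H X)) * T.tr Y ((L (r : ℤ) (e r a) : T.H Y) * b) := by
      intro r a
      rw [← mul_assoc, ← map_mul, tr_pull_mul_pull T p q hQ (SetLike.mul_mem_graded x.2 (f r a).2)
        (L (r : ℤ) (e r a)).2]
    simp only [hterm]
    by_cases hsome : 0 ≤ i ∧ i ≤ 2 * (dim X.obj.left : ℤ)
    · obtain ⟨r, rfl⟩ : ∃ r : ℕ, i = r := ⟨i.toNat, by omega⟩
      rw [Finset.sum_eq_single r]
      · have hexp : (∑ a, T.tr X ((f r a : T.H X) * (x : T.H X)) • e r a) = x := by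
          refine Subtype.ext ?_
          rw [Submodule.coe_sum]
          exact eq_sum_dual T (e r) (f r) (hef r) x
        conv_rhs => rw [← hexp, map_sum, Submodule.coe_sum, Finset.sum_mul, map_sum]
        refine Finset.sum_congr rfl fun a _ => ?_
        rw [map_smul, Submodule.coe_smul, smul_mul_assoc, map_smul, smul_eq_mul,
          T.gradedComm X (2 * (dim X.obj.left : ℤ) - r) r (f r a : T.H X) (x : T.H X) (f r a).2 x.2, map_smul,
          smul_eq_mul, neg_one_pow_natAbs_mul _ _ ⟨dim X.obj.left, by omega⟩,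
          neg_one_pow_natAbs_eq (2 * (dim X.obj.left : ℤ) - r) r ⟨dim X.obj.left, by omega⟩, Int.natAbs_natCast,
          mul_assoc]
      · intro r' _ hne
        refine Finset.sum_eq_zero fun a _ => ?_
        rw [tr_mul_eq_zero_of_ne T x.2 (f r' a).2 (by omega), zero_mul, mul_zero]
      · intro h
        simp only [Finset.mem_range] at h
        omega
    · have hx0 : x = 0 := Subtype.ext ((Submodule.mem_bot K).1 (T.vanish X i (by omega) ▸ x.2))
      simp [hx0]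

theorem eq_of_cast {i j : ℤ} (h : i = j) (x : T.gr Y i) :
    ((LinearEquiv.ofEq (T.gr Y i) (T.gr Y j) (congrArg (T.gr Y) h)) x : T.H Y) = (x : T.H Y) := rfl

/-- The trace of a composite of correspondences. -/
theorem tr_mul_pull_swap {Q' : Var k} (hQ : IsProd p q) (p' : Q' ⟶ Y) (q' : Q' ⟶ X) (hQ' : IsProd p' q')
    (σ : Q ⟶ Q') (h₁ : σ ≫ p' = q) (h₂ : σ ≫ q' = p) {l l' : ℤ} (φ : T.gr Q l) (ψ : T.gr Q' l')
    (hl : l + l' = 2 * (dim Q.obj.left : ℤ))
    (hdim : ∀ i : ℤ, i + l + 2 * (dim Y.obj.left : ℤ) - 2 * (dim Q.obj.left : ℤ) + l' + 2 * (dim X.obj.left : ℤ) -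
      2 * (dim Q'.obj.left : ℤ) = i) :
    T.tr Q ((φ : T.H Q) * T.pull σ (ψ : T.H Q')) =
      ∑ i ∈ Finset.range (2 * dim X.obj.left + 1), (-1 : K) ^ i * LinearMap.trace K (T.gr X (i : ℤ))
        ((LinearEquiv.ofEq (T.gr X ((i : ℤ) + l + 2 * (dim Y.obj.left : ℤ) - 2 * (dim Q.obj.left : ℤ) + l' +
            2 * (dim X.obj.left : ℤ) - 2 * (dim Q'.obj.left : ℤ))) (T.gr X (i : ℤ))
            (congrArg (T.gr X) (hdim i))).toLinearMap ∘ₗ
          act T p' q' ψ ((i : ℤ) + l + 2 * (dim Y.obj.left : ℤ) - 2 * (dim Q.obj.left : ℤ)) ∘ₗ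
          act T p q φ (i : ℤ)) := by
  classical
  have hd := dim_prod T p q hQ
  have hd' := dim_prod T p' q' hQ'
  obtain ⟨ι, _, _, e, f, hef⟩ := exists_bases T X
  conv_lhs => rw [eq_sum_act T p q hQ φ ι e f hef]
  simp only [Finset.sum_mul, map_sum, smul_mul_assoc, map_smul, smul_eq_mul]
  refine Finset.sum_congr rfl fun r _ => ?_
  rw [trace_eq_sum_repr T (e r) (f r) (hef r), Finset.mul_sum]
  refine Finset.sum_congr rfl fun a _ => ?_
  congr 1
  obtain ⟨z, hz⟩ : ∃ z, z = act T p q φ (r : ℤ) (e r a) := ⟨_, rfl⟩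
  rw [← hz]
  have hcomp : ((LinearEquiv.ofEq (T.gr X ((r : ℤ) + l + 2 * (dim Y.obj.left : ℤ) - 2 * (dim Q.obj.left : ℤ) + l' +
      2 * (dim X.obj.left : ℤ) - 2 * (dim Q'.obj.left : ℤ))) (T.gr X (r : ℤ))
      (congrArg (T.gr X) (hdim r))).toLinearMap ∘ₗ
    act T p' q' ψ ((r : ℤ) + l + 2 * (dim Y.obj.left : ℤ) - 2 * (dim Q.obj.left : ℤ)) ∘ₗ
    act T p q φ (r : ℤ)) (e r a) =
      LinearEquiv.ofEq _ _ (congrArg (T.gr X) (hdim r)) (act T p' q' ψ _ z) := by rw [hz]; rfl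
  rw [hcomp, eq_of_cast T (hdim r)]
  have hψm := SetLike.mul_mem_graded (T.pull_mem q _ _ z.2) (T.pull_mem σ _ _ ψ.2)
  rw [mul_assoc, T.gradedComm Q _ _ _ _ (T.pull_mem p _ _ (f r a).2) hψm, map_smul, smul_eq_mul,
    T.gradedComm X (2 * (dim X.obj.left : ℤ) - r) _ (f r a : T.H X) _ (f r a).2 (act T p' q' ψ _ z).2, map_smul,
    smul_eq_mul, tr_act]
  congr 1
  · rw [neg_one_pow_natAbs_mul _ _ ⟨(dim X.obj.left : ℤ) + (dim Y.obj.left : ℤ), by omega⟩,
      neg_one_pow_natAbs_mul _ _ ⟨(dim X.obj.left : ℤ), by omega⟩]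
  · rw [← h₁, ← h₂, pull_comp_apply, pull_comp_apply, ← map_mul, ← map_mul,
      tr_pull_swap T p q hQ p' q' hQ' σ h₁ h₂]

end Groth.Agent.WeilLib
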