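import Groth.Agent.WeilLib.Classes
import Mathlib.LinearAlgebra.Charpoly.ToMatrix
import Mathlib.LinearAlgebra.Matrix.Charpoly.Coeff
import Mathlib.LinearAlgebra.Determinant
import Mathlib.LinearAlgebra.Matrix.Dual

/-!
# An endomorphism of degree `c` and Poincaré duality
-/

universe u v

open CategoryTheory AlgebraicGeometry Polynomial

namespace Groth.Agent.WeilLib

open WeilCoh

theorem charpoly_dualMap {K : Type*} [Field K] {V : Type*} [AddCommGroup V] [Module K V] [FiniteDimensional K V]
    (f : V →ₗ[K] V) : f.dualMap.charpoly = f.charpoly := by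
  classical
  let b := Module.finBasis K V
  rw [← f.dualMap.charpoly_toMatrix b.dualBasis, ← f.charpoly_toMatrix b, LinearMap.dualMap_def,
    LinearMap.toMatrix_transpose, Matrix.charpoly_transpose]

theorem reverse_charpoly_eq {K : Type*} [Field K] {V : Type*} [AddCommGroup V] [Module K V] [FiniteDimensional K V]
    (A D : V →ₗ[K] V) (c : K) (h : D ∘ₗ A = c • LinearMap.id) :
    LinearMap.det A • D.charpoly.reverse =
      (-1 : K[X]) ^ Module.finrank K V * A.charpoly.comp (C c * X) := by
  classical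
  let b := Module.finBasis K V
  let a := LinearMap.toMatrix b b A
  let d := LinearMap.toMatrix b b D
  have hda : d * a = c • (1 : Matrix _ _ K) := by
    rw [← LinearMap.toMatrix_comp b b b, h, map_smul, LinearMap.toMatrix_id]
  rw [← LinearMap.det_toMatrix b, ← D.charpoly_toMatrix b, ← A.charpoly_toMatrix b, Matrix.reverse_charpoly]
  rw [Matrix.charpolyRev, smul_eq_C_mul, RingHom.map_det, mul_comm, ← Matrix.det_mul]
  have h1 : (1 - (X : K[X]) • d.map C) * C.mapMatrix a = C.mapMatrix a - (C c * X) • 1 := by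
    have h2 : d.map C * C.mapMatrix a = C.mapMatrix (d * a) := by rw [map_mul]; rfl
    rw [sub_mul, one_mul, Matrix.smul_mul, h2, hda]
    congr 1
    ext1 i j
    by_cases hij : i = j
    · subst hij; simp only [Matrix.smul_apply, RingHom.mapMatrix_apply, Matrix.map_apply, Matrix.one_apply_eq, smul_eq_mul, mul_one]; ring
    · simp only [Matrix.smul_apply, RingHom.mapMatrix_apply, Matrix.map_apply, Matrix.one_apply_ne hij, smul_eq_mul, mul_zero, map_zero]
  rw [h1, Matrix.charpoly, ← Polynomial.coe_compRingHom_apply, RingHom.map_det]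
  have h3 : (compRingHom (C c * X)).mapMatrix a.charmatrix = (C c * X) • 1 - C.mapMatrix a := by
    ext i j
    by_cases hij : i = j <;> simp [hij, Matrix.charmatrix_apply]
  rw [h3, ← neg_sub ((C c * X) • (1 : Matrix _ _ K[X])) (C.mapMatrix a), Matrix.det_neg, Fintype.card_fin]

variable {k : Type u} [Field k] [IsAlgClosed k] {K : Type v} [Field K] [CharZero K] (T : Theory k K)
variable {Xb : Var k} (F : Xb ⟶ Xb) (hη : sm F (genericPoint Xb.obj.left) = genericPoint Xb.obj.left) (c : ℕ)
  (hc : (sm F).residueDegree (genericPoint Xb.obj.left) = c)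

include hη hc in
theorem tr_pull_endo (a : T.H Xb) : T.tr Xb (T.pull F a) = (c : K) * T.tr Xb a := by
  refine homogeneous_induction T (motive := fun a => T.tr Xb (T.pull F a) = (c : K) * T.tr Xb a) a (by simp)
    (fun a b ha hb => by simp [ha, hb, mul_add]) fun i a ha => ?_
  by_cases hi : i = 2 * (dim Xb.obj.left : ℤ)
  · rw [tr_pull_of_dominant T F hη rfl a (hi ▸ ha), hc]
  · rw [T.tr_vanish _ _ _ ha hi, T.tr_vanish _ _ _ (T.pull_mem F _ _ ha) hi, mul_zero]

include hη hc in
theorem exists_adjoint {i j : ℤ} (h : i + j = 2 * (dim Xb.obj.left : ℤ)) :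
    ∃ D : T.gr Xb i →ₗ[K] T.gr Xb i, D ∘ₗ T.pullDeg F i = (c : K) • LinearMap.id ∧
      D.charpoly = (T.pullDeg F j).charpoly ∧ LinearMap.det D = LinearMap.det (T.pullDeg F j) := by
  have := T.finite Xb i
  have := T.finite Xb j
  have := T.duality Xb i j h
  let B := (WeilCoh.pairing K (T.gr Xb i) (T.gr Xb j) (T.tr Xb)).toPerfPair
  refine ⟨B.symm.conj (T.pullDeg F j).dualMap, LinearMap.ext fun x => B.injective (LinearMap.ext fun y => ?_), ?_, ?_⟩
  · rw [LinearMap.comp_apply, LinearEquiv.conj_apply_apply, LinearEquiv.symm_symm, LinearEquiv.apply_symm_apply,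
      LinearMap.smul_apply, LinearMap.id_apply, map_smul, LinearMap.smul_apply, smul_eq_mul]
    show T.tr Xb (T.pull F (x : T.H Xb) * T.pull F (y : T.H Xb)) = _
    rw [← map_mul, tr_pull_endo T F hη c hc]
    rfl
  · rw [LinearEquiv.charpoly_conj, charpoly_dualMap]
  · rw [LinearEquiv.conj_apply, LinearMap.comp_assoc, LinearMap.det_conj, LinearMap.det_dualMap]

include hη hc in
theorem det_mul_det {i j : ℤ} (h : i + j = 2 * (dim Xb.obj.left : ℤ)) :
    LinearMap.det (T.pullDeg F j) * LinearMap.det (T.pullDeg F i) = (c : K) ^ Module.finrank K (T.gr Xb i) := by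
  obtain ⟨D, h1, -, h3⟩ := exists_adjoint T F hη c hc h
  rw [← h3, ← LinearMap.det_comp, h1, LinearMap.det_smul, LinearMap.det_id, mul_one]

include hη hc in
theorem det_smul_reverse_charpoly {i j : ℤ} (h : i + j = 2 * (dim Xb.obj.left : ℤ)) :
    LinearMap.det (T.pullDeg F i) • (T.pullDeg F j).charpoly.reverse =
      (-1 : K[X]) ^ Module.finrank K (T.gr Xb i) * (T.pullDeg F i).charpoly.comp (C (c : K) * X) := by
  have := T.finite Xb i
  obtain ⟨D, h1, h2, -⟩ := exists_adjoint T F hη c hc h
  rw [← h2]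
  exact reverse_charpoly_eq _ D _ h1

end Groth.Agent.WeilLib
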