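import Groth.Agent.WeilLib.Geom
import Groth.Agent.WeilLib.FrobField
import Mathlib.AlgebraicGeometry.FunctionField
import Mathlib.FieldTheory.IsAlgClosed.Basic
import Mathlib.FieldTheory.Finite.Basic

/-!
# The Frobenius endomorphism at the generic point
-/

universe u v

open CategoryTheory CategoryTheory.Limits AlgebraicGeometry TopologicalSpace

namespace Groth.Agent.WeilLib

open WeilCoh Groth.Agent.DimLib

theorem comp_FX_of_field {X : Scheme.{u}} (FX : X ⟶ X) (hle : ∀ U : X.Opens, U ≤ FX ⁻¹ᵁ U) (q : ℕ)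
    (hFapp : ∀ (U : X.Opens) (s : Γ(X, U)), (FX.appLE U U (hle U)).hom s = s ^ q)
    {L : Type u} [Field L] (φL : L →+* L) (hφL : ∀ a, φL a = a ^ q) (g : Spec (CommRingCat.of L) ⟶ X) :
    g ≫ FX = Spec.map (CommRingCat.ofHom φL) ≫ g := by
  obtain ⟨U, hU, hxU, -⟩ := exists_isAffineOpen_mem_and_subset (X := X) (U := ⊤)
    (x := g (IsLocalRing.closedPoint L)) trivial
  have : Subsingleton ↥(Spec (CommRingCat.of L)) := inferInstanceAs (Subsingleton (PrimeSpectrum L))
  have hg : Set.range g ⊆ Set.range hU.fromSpec := by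
    rw [hU.range_fromSpec]
    rintro _ ⟨z, rfl⟩
    rwa [Subsingleton.elim (α := ↥(Spec (CommRingCat.of L))) z (IsLocalRing.closedPoint L)]
  obtain ⟨φ, rfl⟩ : ∃ φ, Spec.map φ ≫ hU.fromSpec = g :=
    ⟨Spec.preimage (IsOpenImmersion.lift hU.fromSpec g hg), by rw [Spec.map_preimage, IsOpenImmersion.lift_fac]⟩
  rw [Category.assoc, ← hU.SpecMap_appLE_fromSpec FX hU (hle U), ← Spec.map_comp_assoc, ← Spec.map_comp_assoc]
  congr 2
  refine CommRingCat.hom_ext (RingHom.ext fun s => ?_)
  show φ.hom ((FX.appLE U U (hle U)).hom s) = φL (φ.hom s)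
  rw [hFapp, hφL, map_pow]

theorem eq_congr_comp {X : Scheme.{u}} {L : Type u} [Field L] {y y' : X} (h : y = y')
    (a : X.residueField y ⟶ .of L) (b : X.residueField y' ⟶ .of L)
    (e : Spec.map a ≫ X.fromSpecResidueField y = Spec.map b ≫ X.fromSpecResidueField y') :
    a = (X.residueFieldCongr h).hom ≫ b := by
  subst h
  rw [cancel_mono] at e
  rw [Spec.map_injective e]
  simp

variable {k₀ : Type u} [Field k₀] [Finite k₀] {k : Type u} [Field k] [IsAlgClosed k] [Algebra k₀ k]

theorem rdeg_frobenius_residueField (Xb : Var k) (p : ℕ) [Fact p.Prime] [CharP k p]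
    [CharP (Xb.obj.left.residueField (genericPoint Xb.obj.left)) p] (r : ℕ) :
    rdeg (iterateFrobenius (Xb.obj.left.residueField (genericPoint Xb.obj.left)) p r) =
      (p ^ r) ^ dim Xb.obj.left := by
  have := isIntegral_var Xb
  set η := genericPoint Xb.obj.left
  obtain ⟨U, hU, hxU, -⟩ := exists_isAffineOpen_mem_and_subset (X := Xb.obj.left) (U := ⊤) (x := η) trivial
  have : Nonempty U := ⟨⟨η, hxU⟩⟩
  let φ : k →+* Γ(Xb.obj.left, U) := (Spec.preimage (hU.fromSpec ≫ Xb.obj.hom)).hom
  have hφ : φ.FiniteType := by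
    have : LocallyOfFiniteType (Spec.map (Spec.preimage (hU.fromSpec ≫ Xb.obj.hom))) := by
      rw [Spec.map_preimage]; infer_instance
    exact (HasRingHomProperty.Spec_iff (P := @LocallyOfFiniteType)).1 this
  algebraize [φ]
  have hB : CharP Γ(Xb.obj.left, U) p := charP_of_injective_ringHom (f := φ) φ.injective p
  have := functionField_isFractionRing_of_isAffineOpen Xb.obj.left U hU
  have hL : CharP Xb.obj.left.functionField p := charP_of_injective_ringHom
    (f := (algebraMap Γ(Xb.obj.left, U) Xb.obj.left.functionField).comp φ) (RingHom.injective _) p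
  have hd : (Algebra.trdeg k Γ(Xb.obj.left, U)).toNat = dim Xb.obj.left := by
    have h1 := ringKrullDim_eq_trdeg (k := k) (A := Γ(Xb.obj.left, U))
    have h2 := ptDim_chart Xb.obj.hom φ hφ hU.fromSpec (Spec.map_preimage _).symm (genericPoint _)
    rw [genericPoint_eq_of_isOpenImmersion, genericPoint_eq_bot_of_affine] at h2
    rw [dim_eq, pd]
    have h3 : ringKrullDim (Γ(Xb.obj.left, U) ⧸ (⊥ : Ideal Γ(Xb.obj.left, U))) = ringKrullDim Γ(Xb.obj.left, U) :=
      ringKrullDim_eq_of_ringEquiv (RingEquiv.quotientBot _)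
    have h4 := h3.symm.trans h2
    rw [h1] at h4
    exact_mod_cast h4
  have h := rdeg_frobenius k p r Γ(Xb.obj.left, U) Xb.obj.left.functionField
  rw [hd] at h
  have hres : Function.Bijective (Xb.obj.left.residue η).hom := by
    refine ⟨?_, Xb.obj.left.residue_surjective η⟩
    exact RingHom.injective (R := Xb.obj.left.functionField) (Xb.obj.left.residue η).hom
  let e : Xb.obj.left.functionField ≃+* Xb.obj.left.residueField η := RingEquiv.ofBijective _ hres
  have he : (iterateFrobenius (Xb.obj.left.residueField η) p r).comp (e : _ →+* _) =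
      (e : _ →+* _).comp (iterateFrobenius Xb.obj.left.functionField p r) :=
    RingHom.ext fun x => by
      show iterateFrobenius _ p r (e x) = e (iterateFrobenius _ p r x)
      rw [iterateFrobenius_def, iterateFrobenius_def, map_pow]
  have he' := congrArg rdeg he
  have h1 := rdeg_comp (e : Xb.obj.left.functionField →+* Xb.obj.left.residueField η) (iterateFrobenius (Xb.obj.left.residueField η) p r) (iterateFrobenius_inj _ p r)
  have h2 := rdeg_comp (iterateFrobenius Xb.obj.left.functionField p r) (e : Xb.obj.left.functionField →+* Xb.obj.left.residueField η) e.injective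
  have h3 := (h1.symm.trans he').trans h2
  have he1 : rdeg (e : Xb.obj.left.functionField →+* Xb.obj.left.residueField η) = 1 := rdeg_ringEquiv e
  rw [he1, one_mul, mul_one, h] at h3
  exact h3

theorem frobenius_genericPoint {X : Scheme.{u}} (f : X ⟶ Spec (CommRingCat.of k₀))
    (FX : X ⟶ X) (hle : ∀ U : X.Opens, U ≤ FX ⁻¹ᵁ U)
    (hFapp : ∀ (U : X.Opens) (s : Γ(X, U)), (FX.appLE U U (hle U)).hom s = s ^ Nat.card k₀)
    (Xb : Var k) (π : Xb.obj.left ⟶ X)
    (hπ : IsPullback π Xb.obj.hom f (Spec.map (CommRingCat.ofHom (algebraMap k₀ k))))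
    (F : Xb ⟶ Xb) (hF : sm F ≫ π = π ≫ FX) :
    sm F (genericPoint Xb.obj.left) = genericPoint Xb.obj.left ∧
      (sm F).residueDegree (genericPoint Xb.obj.left) = Nat.card k₀ ^ dim Xb.obj.left := by
  cases nonempty_fintype k₀
  obtain ⟨p, hp, m, hpp, hcard⟩ := FiniteField.card' k₀
  have : Fact p.Prime := ⟨hpp⟩
  have hpk : CharP k p := charP_of_injective_algebraMap (algebraMap k₀ k).injective p
  have hq : Nat.card k₀ = p ^ (m : ℕ) := by rw [Nat.card_eq_fintype_card, hcard]
  set r := (m : ℕ)
  set η := genericPoint Xb.obj.left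
  let β := baseRingHom Xb.obj.hom η
  have hpL : CharP (Xb.obj.left.residueField η) p := charP_of_injective_ringHom β.injective p
  let φL := iterateFrobenius (Xb.obj.left.residueField η) p r
  let e := Xb.obj.left.fromSpecResidueField η
  let Fk : Spec (CommRingCat.of k) ⟶ Spec (CommRingCat.of k) := Spec.map (CommRingCat.ofHom (iterateFrobenius k p r))
  let Fk' : Spec (CommRingCat.of k) ⟶ Spec (CommRingCat.of k) :=
    Spec.map (CommRingCat.ofHom ((iterateFrobeniusEquiv k p r).symm : k →+* k))
  have hkk : Fk ≫ Fk' = 𝟙 _ ∧ Fk' ≫ Fk = 𝟙 _ := by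
    constructor <;> rw [← Spec.map_comp, ← Spec.map_id] <;> congr 1 <;> ext a
    · exact (iterateFrobeniusEquiv k p r).apply_symm_apply a
    · exact (iterateFrobeniusEquiv k p r).symm_apply_apply a
  have hc : ∀ c : k₀, algebraMap k₀ k c ^ p ^ r = algebraMap k₀ k c := fun c => by
    rw [← map_pow, ← hcard, FiniteField.pow_card]
  have hFk : Fk ≫ Spec.map (CommRingCat.ofHom (algebraMap k₀ k)) = Spec.map (CommRingCat.ofHom (algebraMap k₀ k)) := by
    rw [← Spec.map_comp]
    congr 1
    exact CommRingCat.hom_ext (RingHom.ext fun c => hc c)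
  have hFk' : Fk' ≫ Spec.map (CommRingCat.ofHom (algebraMap k₀ k)) = Spec.map (CommRingCat.ofHom (algebraMap k₀ k)) := by
    conv_lhs => rw [← hFk, ← Category.assoc, hkk.2, Category.id_comp]
  let G := hπ.lift π (Xb.obj.hom ≫ Fk) (by rw [Category.assoc, hFk]; exact hπ.w)
  let G' := hπ.lift π (Xb.obj.hom ≫ Fk') (by rw [Category.assoc, hFk']; exact hπ.w)
  have : IsIso G' := ⟨G, hπ.hom_ext (by simp [G, G']) (by simp [G, G', hkk.2]),
    hπ.hom_ext (by simp [G, G']) (by simp [G, G', hkk.1])⟩
  have hmain : e ≫ sm F = Spec.map (CommRingCat.ofHom φL) ≫ e ≫ G' := by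
    refine hπ.hom_ext ?_ ?_
    · simp only [G', Category.assoc, IsPullback.lift_fst, hF]
      rw [← Category.assoc, comp_FX_of_field FX hle (Nat.card k₀) hFapp φL
        (fun a => by rw [hq]; exact iterateFrobenius_def p r a)]
    · simp only [G', Category.assoc, IsPullback.lift_snd]
      rw [show sm F ≫ Xb.obj.hom = Xb.obj.hom from Over.w F.hom]
      have h1 : Spec.map (CommRingCat.ofHom φL) ≫ e ≫ Xb.obj.hom = e ≫ Xb.obj.hom ≫ Fk := by
        rw [show e ≫ Xb.obj.hom ≫ Fk = (e ≫ Xb.obj.hom) ≫ Fk from (Category.assoc _ _ _).symm,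
          show e ≫ Xb.obj.hom = Spec.map (CommRingCat.ofHom β) from (specMap_baseRingHom _ _).symm,
          ← Spec.map_comp, ← Spec.map_comp]
        congr 1
        exact CommRingCat.hom_ext (RingHom.ext fun c => (RingHom.map_iterateFrobenius β p c r).symm)
      rw [← Category.assoc e Xb.obj.hom Fk', ← Category.assoc, h1, Category.assoc, Category.assoc, hkk.1,
        Category.comp_id]
  have hG : G' η = η := genericPoint_eq_of_isOpenImmersion G'
  have hη : sm F η = η := by
    have h1 : ∀ z, e z = η := fun z => Xb.obj.left.fromSpecResidueField_apply η z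
    let c : ↥(Spec (CommRingCat.of ↑(Xb.obj.left.residueField η))) := IsLocalRing.closedPoint (Xb.obj.left.residueField η)
    have h2 : (e ≫ sm F) c = (Spec.map (CommRingCat.ofHom φL) ≫ e ≫ G') c := by rw [hmain]
    change sm F (e c) = G' (e (Spec.map (CommRingCat.ofHom φL) c)) at h2
    exact ((congrArg (sm F) (h1 c)).symm.trans h2).trans ((congrArg G' (h1 _)).trans hG)
  refine ⟨hη, ?_⟩
  have h2 : (sm F).residueFieldMap η =
      (Xb.obj.left.residueFieldCongr (hη.trans hG.symm)).hom ≫ G'.residueFieldMap η ≫ CommRingCat.ofHom φL := by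
    refine eq_congr_comp _ _ _ ?_
    refine ((sm F).SpecMap_residueFieldMap_fromSpecResidueField η).trans (hmain.trans ?_)
    erw [Spec.map_comp, Category.assoc]
    exact congrArg (Spec.map (CommRingCat.ofHom φL) ≫ ·) (G'.SpecMap_residueFieldMap_fromSpecResidueField η).symm
  have hbij : Function.Bijective ((Xb.obj.left.residueFieldCongr (hη.trans hG.symm)).hom ≫ G'.residueFieldMap η).hom :=
    (ConcreteCategory.isIso_iff_bijective _).1 inferInstance
  show rdeg ((sm F).residueFieldMap η).hom = _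
  rw [h2]
  show rdeg (φL.comp ((Xb.obj.left.residueFieldCongr (hη.trans hG.symm)).hom ≫ G'.residueFieldMap η).hom) = _
  rw [rdeg_comp _ _ φL.injective, show rdeg ((Xb.obj.left.residueFieldCongr (hη.trans hG.symm)).hom ≫ G'.residueFieldMap η).hom = 1 from
    rdeg_ringEquiv (RingEquiv.ofBijective _ hbij), one_mul, hq]
  exact rdeg_frobenius_residueField Xb p r

end Groth.Agent.WeilLib
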