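import Groth.Agent.WeilLib.Swap

/-!
# Polynomials in an endomorphism as algebraic correspondences
-/

universe u v

open CategoryTheory AlgebraicGeometry Polynomial

namespace Groth.Agent.WeilLib

open WeilCoh

variable {k : Type u} [Field k] [IsAlgClosed k] {K : Type v} [Field K] [CharZero K] (T : Theory k K)

/-- The morphism into a product. -/
noncomputable def prodLift {X Y Q W : Var k} {p : Q ⟶ X} {q : Q ⟶ Y} (h : IsProd p q) (a : W ⟶ X) (b : W ⟶ Y) :
    W ⟶ Q :=
  ObjectProperty.homMk (Over.homMk (IsPullback.lift h (sm a) (sm b) (by rw [Over.w a.hom, Over.w b.hom]))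
    (by
      rw [← Over.w p.hom, ← Category.assoc]
      show (IsPullback.lift h (sm a) (sm b) _ ≫ sm p) ≫ X.obj.hom = _
      rw [IsPullback.lift_fst, Over.w a.hom]))

theorem prodLift_fst {X Y Q W : Var k} {p : Q ⟶ X} {q : Q ⟶ Y} (h : IsProd p q) (a : W ⟶ X) (b : W ⟶ Y) :
    prodLift h a b ≫ p = a :=
  ObjectProperty.hom_ext _ (Over.OverMorphism.ext (IsPullback.lift_fst h _ _ _))

theorem prodLift_snd {X Y Q W : Var k} {p : Q ⟶ X} {q : Q ⟶ Y} (h : IsProd p q) (a : W ⟶ X) (b : W ⟶ Y) :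
    prodLift h a b ≫ q = b :=
  ObjectProperty.hom_ext _ (Over.OverMorphism.ext (IsPullback.lift_snd h _ _ _))

variable {X P : Var k} (p q : P ⟶ X) (hP : IsProd p q) (F : X ⟶ X)

/-- The iterates. -/
noncomputable def iter : ℕ → (X ⟶ X)
  | 0 => 𝟙 X
  | m + 1 => iter m ≫ F

theorem pullDeg_pow (j : ℤ) (m : ℕ) (b : T.gr X j) :
    T.pull (iter F m) (b : T.H X) = (((T.pullDeg F j) ^ m) b : T.H X) := by
  induction m generalizing b with
  | zero => exact pull_id_apply T _
  | succ m ih =>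
    show T.pull (iter F m ≫ F) (b : T.H X) = _
    rw [pull_comp_apply, pow_succ, Module.End.mul_apply, ← ih (T.pullDeg F j b)]
    rfl

/-- The class of the transposed graph of an iterate. -/
noncomputable def trGraph (m : ℕ) : T.H P :=
  T.cl P (sm (prodLift hP (iter F m) (𝟙 X)) (genericPoint X.obj.left))

theorem trGraph_mem (m : ℕ) : trGraph T p q hP F m ∈ T.gr P (2 * (dim X.obj.left : ℤ)) := by
  have h := cl_graph_mem T (prodLift hP (iter F m) (𝟙 X)) q (prodLift_snd hP _ _)
  have := dim_prod T p q hP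
  rw [trGraph]
  convert h using 2
  omega

include hP in
theorem exists_corr_aeval (Q : Polynomial K) :
    ∃ u : ↥(T.gr P (2 * (dim X.obj.left : ℤ))), (u : T.H P) ∈ Submodule.span K (Set.range (T.cl P)) ∧
      ∀ (j : ℤ) (b : ↥(T.gr X j)),
        (T.push q (j + 2 * (dim X.obj.left : ℤ))
            ⟨T.pull p (b : T.H X) * (u : T.H P), SetLike.mul_mem_graded (T.pull_mem p j b b.2) u.2⟩ : T.H X) =
          ((aeval (T.pullDeg F j) Q) b : T.H X) := by
  have hd := dim_prod T p q hP
  refine ⟨⟨∑ m ∈ Finset.range (Q.natDegree + 1), Q.coeff m • trGraph T p q hP F m,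
    Submodule.sum_mem _ fun m _ => Submodule.smul_mem _ _ (trGraph_mem T p q hP F m)⟩,
    Submodule.sum_mem (t := Finset.range (Q.natDegree + 1)) _ fun m _ => Submodule.smul_mem _ (Q.coeff m) (show trGraph T p q hP F m ∈ Submodule.span K (Set.range (T.cl P)) from Submodule.subset_span (Set.mem_range_self _)), fun j b => ?_⟩
  refine push_eq T q _ _ ?_ fun c _ => ?_
  · convert ((aeval (T.pullDeg F j) Q) b).2 using 2
    omega
  · change T.tr P (T.pull p (b : T.H X) * (∑ m ∈ Finset.range (Q.natDegree + 1), Q.coeff m • trGraph T p q hP F m) *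
      T.pull q c) = _
    rw [aeval_eq_sum_range, LinearMap.sum_apply, Submodule.coe_sum, Finset.mul_sum, Finset.sum_mul, Finset.sum_mul,
      map_sum, map_sum]
    refine Finset.sum_congr rfl fun m _ => ?_
    rw [LinearMap.smul_apply, Submodule.coe_smul, mul_smul_comm, smul_mul_assoc, smul_mul_assoc, map_smul, map_smul,
      trGraph, ← even_comm T (T.cl_mem P _) (T.pull_mem p _ _ b.2), mul_assoc,
      tr_cl_graph_mul T (prodLift hP (iter F m) (𝟙 X)) q (prodLift_snd hP _ _), map_mul, ← pull_comp_apply,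
      ← pull_comp_apply, prodLift_fst, prodLift_snd, pull_id_apply, pullDeg_pow]

theorem exists_poly {L : Type*} [Field L] {ι : Type*} [DecidableEq ι] (f : ι → L[X])
    (hf : ∀ i j, i ≠ j → IsCoprime (f i) (f j)) (i : ι) (s : Finset ι) :
    ∃ Q a : L[X], Q = 1 + a * f i ∧ ∀ j ∈ s, j ≠ i → f j ∣ Q := by
  obtain ⟨a, b, hab⟩ : IsCoprime (f i) (∏ j ∈ s.erase i, f j) :=
    IsCoprime.prod_right fun j hj => hf i j (Finset.ne_of_mem_erase hj).symm
  refine ⟨b * ∏ j ∈ s.erase i, f j, -a, ?_, fun j hj hji => (Finset.dvd_prod_of_mem f (Finset.mem_erase.2 ⟨hji, hj⟩)).mul_left b⟩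
  linear_combination hab

end Groth.Agent.WeilLib
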