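import Groth.Agent.WeilLib.Corr

/-!
# Pull-back of algebraic classes along automorphisms; the trace of a composite
-/

universe u v

open CategoryTheory AlgebraicGeometry

namespace Groth.Agent.WeilLib

open WeilCoh

variable {k : Type u} [Field k] [IsAlgClosed k] {K : Type v} [Field K] [CharZero K] (T : Theory k K)

theorem act_congr {X Y Q : Var k} (p : Q ⟶ X) (q : Q ⟶ Y) {l : ℤ} (φ : T.gr Q l) {i j : ℤ} (h : i = j)
    (z : T.gr X i) (z' : T.gr X j) (hz : (z : T.H X) = z') :
    (act T p q φ i z : T.H Y) = (act T p q φ j z' : T.H Y) := by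
  subst h
  rw [Subtype.ext hz]

theorem hom_ext_prod {X Y Q W : Var k} {p : Q ⟶ X} {q : Q ⟶ Y} (h : IsProd p q) {a b : W ⟶ Q}
    (h1 : a ≫ p = b ≫ p) (h2 : a ≫ q = b ≫ q) : a = b :=
  ObjectProperty.hom_ext _ (Over.OverMorphism.ext
    (IsPullback.hom_ext h (congrArg (fun f => f.hom.left) h1) (congrArg (fun f => f.hom.left) h2)))

theorem isIso_sm_of_inverse {X Y : Var k} (f : X ⟶ Y) (g : Y ⟶ X) (h : f ≫ g = 𝟙 X) (h' : g ≫ f = 𝟙 Y) :
    IsIso (sm f) :=
  ⟨sm g, congrArg (fun f => f.hom.left) h, congrArg (fun f => f.hom.left) h'⟩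

theorem pull_cl_of_isIso {X Y : Var k} (f : X ⟶ Y) [IsIso (sm f)] (hdim : dim X.obj.left = dim Y.obj.left)
    (ξ : Y.obj.left) : T.pull f (T.cl Y ξ) ∈ Submodule.span K (Set.range (T.cl X)) := by
  have hsurj : Function.Surjective (sm f) := (sm f).surjective
  obtain ⟨w₀, rfl⟩ := hsurj ξ
  have hcomp : ∀ w, IsCompPt ((sm f) ⁻¹' closure ({sm f w₀} : Set Y.obj.left)) w → w = w₀ := fun w hw => by
    have hs : w₀ ⤳ w := (sm f).isOpenEmbedding.isInducing.specializes_iff.1
      (specializes_iff_mem_closure.2 hw.1)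
    exact (hw.2 w₀ (subset_closure rfl) hs).symm
  rw [T.cl_pull f (sm f w₀) ?_ ?_]
  · exact finsum_induction (p := (· ∈ Submodule.span K (Set.range (T.cl X)))) (zero_mem _)
      (fun a b => add_mem) fun w => Submodule.smul_mem _ _ (Submodule.subset_span ⟨w.1, rfl⟩)
  · intro w hw
    rw [hcomp w hw, pdim_map_of_residueDegree f w₀ (by rw [residueDegree_preimmersion (sm f) w₀]; exact one_ne_zero),
      hdim]
    omega
  · refine Or.inl ⟨⊤, fun _ _ => trivial, ?_⟩
    have : Flat (sm f) := inferInstance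
    exact MorphismProperty.of_isPullback (isPullback_morphismRestrict _ _).flip this

theorem pull_span_of_isIso {X Y : Var k} (f : X ⟶ Y) [IsIso (sm f)] (hdim : dim X.obj.left = dim Y.obj.left)
    {a : T.H Y} (ha : a ∈ Submodule.span K (Set.range (T.cl Y))) :
    T.pull f a ∈ Submodule.span K (Set.range (T.cl X)) := by
  refine Submodule.span_induction ?_ (by rw [map_zero]; exact zero_mem _)
    (fun x y _ _ hx hy => by rw [map_add]; exact add_mem hx hy)
    (fun c x _ hx => by rw [map_smul]; exact Submodule.smul_mem _ c hx) ha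
  rintro _ ⟨ξ, rfl⟩
  exact pull_cl_of_isIso T f hdim ξ

end Groth.Agent.WeilLib
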