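import Groth.Agent.WeilLib.Lefschetz
import Groth.Agent.WeilLib.Frobenius
import Groth.Agent.WeilLib.GraphOps
import Groth.Agent.WeilLib.Cycles
import Groth.Agent.WeilLib.StalkMaps

/-!
# Fixed points of an endomorphism with vanishing differential
-/

universe u v

open CategoryTheory CategoryTheory.Limits AlgebraicGeometry TopologicalSpace

namespace Groth.Agent.WeilLib

open WeilCoh Groth.Agent.DimLib

/-- The point of `Spec k`. -/
noncomputable def cpt (k : Type u) [Field k] : ↥(Spec (CommRingCat.of k)) := IsLocalRing.closedPoint k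

variable {k : Type u} [Field k] [IsAlgClosed k]

set_option backward.isDefEq.respectTransparency.types false in
theorem section_apply {Xb : Var k} (P : Spec (CommRingCat.of k) ⟶ Xb.obj.left)
    (hP : P ≫ Xb.obj.hom = 𝟙 _) {w : Xb.obj.left} (hw : P (cpt k) = w) :
    IsClosed ({w} : Set Xb.obj.left) ∧
      Xb.obj.left.fromSpecResidueField w = Spec.map (CommRingCat.ofHom (baseRingHom Xb.obj.hom w)) ≫ P := by
  subst hw
  have hcl : IsClosed ({P (cpt k)} : Set Xb.obj.left) := by
    have : IsClosedImmersion (P ≫ Xb.obj.hom) := by rw [hP]; infer_instance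
    have hP' := IsClosedImmersion.of_comp P Xb.obj.hom
    have : Subsingleton ↥(Spec (CommRingCat.of k)) := inferInstanceAs (Subsingleton (PrimeSpectrum k))
    convert P.isClosedEmbedding.isClosed_range
    ext x
    exact ⟨fun h => ⟨cpt k, h.symm⟩, fun ⟨y, hy⟩ => by
      rw [Set.mem_singleton_iff, ← hy, Subsingleton.elim (α := ↥(Spec (CommRingCat.of k))) y (cpt k)]⟩
  refine ⟨hcl, ?_⟩
  obtain ⟨φ, hφ⟩ : ∃ φ : Xb.obj.left.residueField (P (cpt k)) ⟶ CommRingCat.of k,
      Spec.map φ ≫ Xb.obj.left.fromSpecResidueField (P (cpt k)) = P :=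
    ⟨_, Scheme.descResidueField_stalkClosedPointTo_fromSpecResidueField k Xb.obj.left P⟩
  have h1 : CommRingCat.ofHom (baseRingHom Xb.obj.hom (P (cpt k))) ≫ φ = 𝟙 _ := by
    apply Spec.map_injective
    rw [Spec.map_comp, specMap_baseRingHom, ← Category.assoc, hφ, hP, Spec.map_id]
  have h2 : φ ≫ CommRingCat.ofHom (baseRingHom Xb.obj.hom (P (cpt k))) = 𝟙 _ := by
    refine CommRingCat.hom_ext (RingHom.ext fun y => ?_)
    obtain ⟨a, rfl⟩ := (baseRingHom_bijective Xb hcl).2 y
    show baseRingHom Xb.obj.hom _ ((CommRingCat.ofHom (baseRingHom Xb.obj.hom (P (cpt k))) ≫ φ).hom a) = _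
    rw [h1]; rfl
  conv_rhs => arg 2; rw [← hφ]
  rw [← Category.assoc, ← Spec.map_comp, h2, Spec.map_id]
  exact (Category.id_comp _).symm

variable (Xb : Var k) {X : Scheme.{u}} (π : Xb.obj.left ⟶ X) (G : Xb ⟶ Xb) (Q : ℕ)

/-- `G` is, through `π`, the `Q`-th power Frobenius on points with values in local rings. -/
def IsFrobLike : Prop :=
  ∀ (A : CommRingCat.{u}) [IsLocalRing A] (φA : A →+* A), (∀ a, φA a = a ^ Q) →
    ∀ t : Spec A ⟶ Xb.obj.left, t ≫ sm G ≫ π = Spec.map (CommRingCat.ofHom φA) ≫ t ≫ π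

/-- Rings over `k` have a `Q`-th power endomorphism. -/
def HasPower (k : Type u) [Field k] (Q : ℕ) : Prop :=
  ∀ (A : Type u) [CommRing A] [Nontrivial A] (_ : k →+* A), ∃ φA : A →+* A, ∀ a, φA a = a ^ Q

variable {Xb π G Q}
variable {k₀ : Type u} [Field k₀] [Algebra k₀ k] {f : X ⟶ Spec (CommRingCat.of k₀)}
  (hπ : IsPullback π Xb.obj.hom f (Spec.map (CommRingCat.ofHom (algebraMap k₀ k))))
  (hG : IsFrobLike Xb π G Q) (hpow : HasPower k Q)
variable {Pb : Var k} (p q : Pb ⟶ Xb) (hP : IsProd p q) (j d : Xb ⟶ Pb)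
  (hjp : j ≫ p = 𝟙 Xb) (hjq : j ≫ q = G) (hdp : d ≫ p = 𝟙 Xb) (hdq : d ≫ q = 𝟙 Xb)

theorem sm_comp_eq {A B C : Var k} {a : A ⟶ B} {b : B ⟶ C} {c : A ⟶ C} (h : a ≫ b = c) : sm a ≫ sm b = sm c :=
  congrArg (fun f => f.hom.left) h

include hP hjp hjq hdp hdq in
theorem section_fixed_eq (P : Spec (CommRingCat.of k) ⟶ Xb.obj.left)
    (hfix : P ≫ sm G = P) : P ≫ sm d = P ≫ sm j := by
  refine IsPullback.hom_ext hP ?_ ?_
  · rw [Category.assoc, Category.assoc, sm_comp_eq hjp, sm_comp_eq hdp]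
  · rw [Category.assoc, Category.assoc, sm_comp_eq hjq, sm_comp_eq hdq, hfix]
    exact Category.comp_id P

set_option backward.isDefEq.respectTransparency.types false in
include hP hjp hjq hdp hdq hπ hG hpow in
theorem exists_fixed_section_of_mem (hQ : 2 ≤ Q) {w : Xb.obj.left}
    (hw : sm d w ∈ closure ({sm j (genericPoint Xb.obj.left)} : Set Pb.obj.left)) :
    ∃ P : Spec (CommRingCat.of k) ⟶ Xb.obj.left,
      P ≫ Xb.obj.hom = 𝟙 _ ∧ P ≫ sm G = P ∧ P (cpt k) = w := by
  have hj := isClosedImmersion_section j p hjp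
  have hsub : closure ({sm j (genericPoint Xb.obj.left)} : Set Pb.obj.left) ⊆ Set.range (sm j) :=
    closure_minimal (Set.singleton_subset_iff.2 ⟨_, rfl⟩) (sm j).isClosedEmbedding.isClosed_range
  obtain ⟨x, hx⟩ := hsub hw
  have hxw : x = w := by
    have := congrArg (sm p) hx
    rwa [← sm_comp_apply, ← sm_comp_apply, hjp, hdp] at this
  subst hxw
  have he := fromSpecResidueField_comp_eq (sm j) (sm d) (sm p) (sm_comp_eq hjp) (sm_comp_eq hdp) hx
  set e := Xb.obj.left.fromSpecResidueField x with hedef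
  have heG : e ≫ sm G = e := by
    rw [← sm_comp_eq hjq, ← Category.assoc, ← he, Category.assoc, sm_comp_eq hdq]
    exact Category.comp_id e
  obtain ⟨φL, hφL⟩ := hpow (Xb.obj.left.residueField x) (baseRingHom Xb.obj.hom x)
  obtain ⟨φ, hφ⟩ := exists_residue_hom π (x := x) rfl
  have hfixed : φ ≫ CommRingCat.ofHom φL = φ := by
    refine residue_hom_ext ?_
    rw [Spec.map_comp, Category.assoc, hφ]
    exact (hG _ φL hφL e).symm.trans (by rw [← Category.assoc, heG])
  set ψ := baseRingHom Xb.obj.hom x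
  have hrange : ∀ a, φ.hom a ∈ ψ.range := fun a => by
    let := ψ.toAlgebra
    have h1 : φ.hom a ^ Q = φ.hom a := (hφL _).symm.trans (RingHom.congr_fun (congrArg CommRingCat.Hom.hom hfixed) a)
    have hint : IsIntegral k (φ.hom a) := ⟨Polynomial.X ^ Q - Polynomial.X,
      Polynomial.monic_X_pow_sub (by rw [Polynomial.degree_X]; exact_mod_cast hQ),
      by simp [Polynomial.eval₂_sub, h1]⟩
    exact minpoly.mem_range_of_degree_eq_one k _
      (IsAlgClosed.degree_eq_one_of_irreducible k (minpoly.irreducible hint))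
  let eψ := RingEquiv.ofBijective ψ.rangeRestrict
    ⟨fun a b h => ψ.injective (congrArg Subtype.val h), ψ.rangeRestrict_surjective⟩
  let φ₀ : X.residueField (π x) →+* k := (eψ.symm : ψ.range →+* k).comp (φ.hom.codRestrict ψ.range hrange)
  have hφ₀ : CommRingCat.ofHom φ₀ ≫ CommRingCat.ofHom ψ = φ := CommRingCat.hom_ext (RingHom.ext fun a =>
    congrArg Subtype.val (eψ.apply_symm_apply ⟨φ.hom a, hrange a⟩))
  have hw' : Spec.map (CommRingCat.ofHom φ₀) ≫ X.fromSpecResidueField (π x) ≫ f =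
      Spec.map (CommRingCat.ofHom (algebraMap k₀ k)) := by
    rw [← specMap_baseRingHom f (π x), ← Spec.map_comp]
    congr 1
    have h1 : CommRingCat.ofHom (baseRingHom f (π x)) ≫ φ =
        CommRingCat.ofHom (algebraMap k₀ k) ≫ CommRingCat.ofHom ψ := by
      apply Spec.map_injective
      rw [Spec.map_comp, Spec.map_comp, specMap_baseRingHom, specMap_baseRingHom, ← Category.assoc, hφ,
        Category.assoc, Category.assoc, hπ.w]
    refine CommRingCat.hom_ext (RingHom.ext fun c => ψ.injective ?_)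
    have h2 := RingHom.congr_fun (congrArg CommRingCat.Hom.hom h1) c
    rw [← hφ₀] at h2
    exact h2
  let P : Spec (CommRingCat.of k) ⟶ Xb.obj.left :=
    hπ.lift (Spec.map (CommRingCat.ofHom φ₀) ≫ X.fromSpecResidueField (π x)) (𝟙 _)
      (by rw [Category.assoc, hw', Category.id_comp])
  have hPh : P ≫ Xb.obj.hom = 𝟙 _ := hπ.lift_snd _ _ _
  have heP : e = Spec.map (CommRingCat.ofHom ψ) ≫ P := by
    refine hπ.hom_ext ?_ ?_
    · rw [Category.assoc, hπ.lift_fst, ← Category.assoc, ← Spec.map_comp, hφ₀, hφ]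
    · rw [Category.assoc, hPh, Category.comp_id, ← specMap_baseRingHom]
  have hPx : P (cpt k) = x := by
    have : Subsingleton ↥(Spec (CommRingCat.of k)) := inferInstanceAs (Subsingleton (PrimeSpectrum k))
    let c : ↥(Spec (Xb.obj.left.residueField x)) := IsLocalRing.closedPoint (Xb.obj.left.residueField x)
    have h1 : (Spec.map (CommRingCat.ofHom ψ) ≫ P) c = x := heP ▸ Scheme.fromSpecResidueField_apply x c
    rw [← h1]
    exact congrArg P (Subsingleton.elim (α := ↥(Spec (CommRingCat.of k))) _ _)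
  refine ⟨P, hPh, ?_, hPx⟩
  have : IsIso (CommRingCat.ofHom ψ) :=
    (ConcreteCategory.isIso_iff_bijective _).2 (baseRingHom_bijective Xb (section_apply P hPh hPx).1)
  rw [← cancel_epi (Spec.map (CommRingCat.ofHom ψ)), ← Category.assoc, ← heP, heG]

set_option backward.isDefEq.respectTransparency.types false in
include hπ hG hpow hP hjp hjq hdp hdq in
theorem preimMult_eq_one (hQ : 2 ≤ Q) (P : Spec (CommRingCat.of k) ⟶ Xb.obj.left) (hPh : P ≫ Xb.obj.hom = 𝟙 _)
    (hfix : P ≫ sm G = P) {w : Xb.obj.left} (hPw : P (cpt k) = w)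
    (hw : sm d w ∈ closure ({sm j (genericPoint Xb.obj.left)} : Set Pb.obj.left)) :
    preimMult (sm d) (sm j (genericPoint Xb.obj.left)) w hw = 1 := by
  set O := Xb.obj.left.presheaf.stalk w with hO
  set fw := Xb.obj.left.fromSpecStalk w with hfw
  have hdw : sm j w = sm d w := by
    rw [← hPw, ← Scheme.Hom.comp_apply, ← Scheme.Hom.comp_apply, section_fixed_eq p q hP j d hjp hjq hdp hdq P hfix]
  have hGw : sm G w = w := by
    conv_lhs => rw [← hPw, ← Scheme.Hom.comp_apply, hfix, hPw]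
  have hpw : sm p (sm d w) = w := by rw [← sm_comp_apply, hdp]; rfl
  have hqw : sm q (sm d w) = w := by rw [← sm_comp_apply, hdq]; rfl
  obtain ⟨α, -, hα⟩ := exists_stalk_hom (sm p) hpw
  obtain ⟨β, -, hβ⟩ := exists_stalk_hom (sm q) hqw
  obtain ⟨γ, -, hγ⟩ := exists_stalk_hom (sm j) hdw
  obtain ⟨Γ, hΓl, hΓ⟩ := exists_stalk_hom (sm G) hGw
  set δ := (sm d).stalkMap w
  have hδ : Spec.map δ ≫ Pb.obj.left.fromSpecStalk (sm d w) = fw ≫ sm d := Scheme.SpecMap_stalkMap_fromSpecStalk _
  have rel1 : α ≫ δ = 𝟙 _ := stalk_hom_ext (z := w) (by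
    rw [Spec.map_comp, Category.assoc, hα, ← Category.assoc, hδ, Category.assoc, sm_comp_eq hdp, Spec.map_id,
      Category.id_comp]
    exact Category.comp_id fw)
  have rel2 : β ≫ δ = 𝟙 _ := stalk_hom_ext (z := w) (by
    rw [Spec.map_comp, Category.assoc, hβ, ← Category.assoc, hδ, Category.assoc, sm_comp_eq hdq, Spec.map_id,
      Category.id_comp]
    exact Category.comp_id fw)
  have rel3 : α ≫ γ = 𝟙 _ := stalk_hom_ext (z := w) (by
    rw [Spec.map_comp, Category.assoc, hα, ← Category.assoc, hγ, Category.assoc, sm_comp_eq hjp, Spec.map_id,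
      Category.id_comp]
    exact Category.comp_id _)
  have rel4 : β ≫ γ = Γ := stalk_hom_ext (z := w) (by
    rw [Spec.map_comp, Category.assoc, hβ, ← Category.assoc, hγ, Category.assoc, sm_comp_eq hjq, hΓ])
  set J : Ideal O := Ideal.map δ.hom
    (RingHom.ker (Cyc.specMap (sm d w) (sm j (genericPoint Xb.obj.left)) (specializes_iff_mem_closure.mpr hw)))
  have hsub : ∀ a : O, a - Γ.hom a ∈ J := fun a => by
    have h0 : γ.hom (β.hom a - α.hom (Γ.hom a)) = 0 := by
      rw [map_sub]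
      show (β ≫ γ).hom a - (α ≫ γ).hom (Γ.hom a) = 0
      rw [rel3, rel4]; exact sub_self _
    have h1 := Ideal.mem_map_of_mem δ.hom (mem_ker_specMap (sm j) (genericPoint_specializes w) hdw
      (specializes_iff_mem_closure.mpr hw) hγ h0)
    rw [map_sub] at h1
    change (β ≫ δ).hom a - (α ≫ δ).hom (Γ.hom a) ∈ J at h1
    rw [rel1, rel2] at h1
    exact h1
  -- the closed point, as a map out of the local ring
  obtain ⟨hcl, heP⟩ := section_apply P hPh hPw
  let ψ := RingEquiv.ofBijective _ (baseRingHom_bijective Xb hcl)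
  let ev : O →+* k := (ψ.symm : Xb.obj.left.residueField w →+* k).comp (Xb.obj.left.residue w).hom
  have hev : Spec.map (CommRingCat.ofHom ev) ≫ fw = P := by
    have e1 : CommRingCat.ofHom ev = Xb.obj.left.residue w ≫
        CommRingCat.ofHom (ψ.symm : Xb.obj.left.residueField w →+* k) := rfl
    rw [e1, Spec.map_comp, Category.assoc]
    change Spec.map (CommRingCat.ofHom (ψ.symm : Xb.obj.left.residueField w →+* k)) ≫ Xb.obj.left.fromSpecResidueField w = P
    rw [heP, ← Category.assoc, ← Spec.map_comp]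
    have : CommRingCat.ofHom (baseRingHom Xb.obj.hom w) ≫ CommRingCat.ofHom (ψ.symm : Xb.obj.left.residueField w →+* k) = 𝟙 _ :=
      CommRingCat.hom_ext (RingHom.ext fun a => ψ.symm_apply_apply a)
    rw [this, Spec.map_id, Category.id_comp]
  let ι : k →+* O := (Spec.preimage (fw ≫ Xb.obj.hom)).hom
  have hι : Spec.map (CommRingCat.ofHom ι) = fw ≫ Xb.obj.hom := Spec.map_preimage _
  have hevι : ∀ c, ev (ι c) = c := fun c => by
    have : CommRingCat.ofHom ι ≫ CommRingCat.ofHom ev = 𝟙 _ := by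
      apply Spec.map_injective
      rw [Spec.map_comp, hι, ← Category.assoc, hev, hPh, Spec.map_id]
    exact RingHom.congr_fun (congrArg CommRingCat.Hom.hom this) c
  set mm := IsLocalRing.maximalIdeal O
  have hker : ∀ a, ev a = 0 → a ∈ mm := fun a h =>
    (IsLocalRing.residue_eq_zero_iff a).1 (ψ.symm.injective (h.trans (map_zero ψ.symm).symm))
  have hker' : ∀ a ∈ mm, ev a = 0 := fun a h => by
    show ψ.symm (IsLocalRing.residue O a) = 0
    exact (congrArg ψ.symm ((IsLocalRing.residue_eq_zero_iff a).2 h)).trans (map_zero ψ.symm)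
  let A := O ⧸ mm ^ 2
  have : Nontrivial A := Ideal.Quotient.nontrivial_iff.2 fun h =>
    (IsLocalRing.maximalIdeal.isMaximal O).ne_top (top_le_iff.1 (h ▸ Ideal.pow_le_self two_ne_zero))
  have : IsLocalRing A := IsLocalRing.of_surjective' (Ideal.Quotient.mk (mm ^ 2)) Ideal.Quotient.mk_surjective
  let mk : O →+* A := Ideal.Quotient.mk (mm ^ 2)
  let evA : A →+* k := Ideal.Quotient.lift (mm ^ 2) ev fun a ha => hker' a (Ideal.pow_le_self two_ne_zero ha)
  obtain ⟨φA, hφA⟩ := hpow A (mk.comp ι)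
  obtain ⟨φk, hφk⟩ := hpow k (RingHom.id k)
  have hdecomp : φA = ((mk.comp ι).comp φk).comp evA := by
    refine RingHom.ext fun a => ?_
    obtain ⟨a, rfl⟩ := Ideal.Quotient.mk_surjective a
    have hn : a - ι (ev a) ∈ mm := hker _ (by rw [map_sub, hevι, sub_self])
    have hn2 : (mk (a - ι (ev a))) ^ Q = 0 := by
      rw [← map_pow]
      exact Ideal.Quotient.eq_zero_iff_mem.2 (Ideal.pow_le_pow_right hQ (Ideal.pow_mem_pow hn Q))
    rw [← hφA, map_sub, map_sub, sub_eq_zero] at hn2
    show φA (mk a) = mk (ι (φk (ev a)))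
    rw [hn2, hφA, hφk, map_pow, map_pow]
  let t : Spec (CommRingCat.of A) ⟶ Xb.obj.left := Spec.map (CommRingCat.ofHom mk) ≫ fw
  let c : Spec (CommRingCat.of A) ⟶ Spec (CommRingCat.of k) := Spec.map (CommRingCat.ofHom (mk.comp ι))
  have htc : t ≫ Xb.obj.hom = c := by
    rw [Category.assoc, ← hι, ← Spec.map_comp]; rfl
  have htG : t ≫ sm G = c ≫ P := by
    refine hπ.hom_ext ?_ ?_
    · rw [Category.assoc, hG (CommRingCat.of A) φA hφA t, hdecomp]
      have e2 : Spec.map (CommRingCat.ofHom evA) ≫ t = P := by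
        rw [← hev, ← Category.assoc, ← Spec.map_comp]; rfl
      change Spec.map ((CommRingCat.ofHom evA ≫ CommRingCat.ofHom φk) ≫ CommRingCat.ofHom (mk.comp ι)) ≫ t ≫ π = _
      rw [Spec.map_comp, Spec.map_comp, Category.assoc, Category.assoc, ← Category.assoc (Spec.map (CommRingCat.ofHom evA)), e2,
        ← hG (CommRingCat.of k) φk hφk P, ← Category.assoc P, hfix, ← Category.assoc]
    · calc (t ≫ sm G) ≫ Xb.obj.hom = t ≫ Xb.obj.hom := by
            rw [Category.assoc, show sm G ≫ Xb.obj.hom = Xb.obj.hom from Over.w G.hom]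
        _ = (c ≫ P) ≫ Xb.obj.hom := by rw [htc, Category.assoc c, hPh, Category.comp_id]
  have hΓm : ∀ a ∈ mm, Γ.hom a ∈ mm ^ 2 := fun a ha => by
    have h : Γ ≫ CommRingCat.ofHom mk = CommRingCat.ofHom ((mk.comp ι).comp ev) := by
      refine stalk_hom_ext ?_
      rw [Spec.map_comp, Category.assoc, hΓ]
      change Spec.map (CommRingCat.ofHom mk) ≫ fw ≫ sm G =
        Spec.map (CommRingCat.ofHom ev ≫ CommRingCat.ofHom (mk.comp ι)) ≫ fw
      rw [Spec.map_comp, Category.assoc (Spec.map (CommRingCat.ofHom (mk.comp ι))), hev, ← Category.assoc]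
      exact htG
    have h2 : mk (Γ.hom a) = mk (ι (ev a)) := RingHom.congr_fun (congrArg CommRingCat.Hom.hom h) a
    rw [hker' a ha, map_zero, map_zero] at h2
    exact Ideal.Quotient.eq_zero_iff_mem.1 h2
  have hJ : J ≤ mm := by
    refine Ideal.map_le_iff_le_comap.2 ?_
    refine le_trans (IsLocalRing.le_maximalIdeal (RingHom.ker_ne_top _)) ?_
    exact fun a ha => (IsLocalRing.mem_maximalIdeal _).2 fun hu => (IsLocalRing.mem_maximalIdeal _).1 ha
      (isUnit_of_map_unit δ.hom a hu)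
  have : IsLocallyNoetherian Xb.obj.left := LocallyOfFiniteType.isLocallyNoetherian Xb.obj.hom
  have hnak : mm ≤ J := by
    refine Submodule.le_of_le_smul_of_le_jacobson_bot (I := mm) (IsNoetherian.noetherian mm)
      (IsLocalRing.maximalIdeal_le_jacobson ⊥) ?_
    intro a ha
    rw [← sub_add_cancel a (Γ.hom a)]
    refine Submodule.add_mem_sup (hsub a) ?_
    rw [smul_eq_mul, ← pow_two]
    exact hΓm a ha
  show ((Module.length O (O ⧸ J)).toNat) = 1
  rw [le_antisymm hJ hnak]
  have : IsSimpleModule O (O ⧸ mm) := isSimpleModule_iff_isCoatom.2 (IsLocalRing.maximalIdeal.isMaximal O).out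
  rw [Module.length_eq_one O (O ⧸ mm)]
  rfl

variable {K : Type v} [Field K] [CharZero K] (T : Theory k K)

set_option backward.isDefEq.respectTransparency.types false in
include hπ hG hpow hP hjp hjq hdp hdq in
theorem tr_pull_diag_graph (hQ : 2 ≤ Q) :
    Finite {P : Spec (CommRingCat.of k) ⟶ Xb.obj.left // P ≫ Xb.obj.hom = 𝟙 _ ∧ P ≫ sm G = P} ∧
    T.tr Xb (T.pull d (T.cl Pb (sm j (genericPoint Xb.obj.left)))) =
      (Nat.card {P : Spec (CommRingCat.of k) ⟶ Xb.obj.left // P ≫ Xb.obj.hom = 𝟙 _ ∧ P ≫ sm G = P} : K) := by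
  classical
  set S : Set Xb.obj.left := (sm d) ⁻¹' closure ({sm j (genericPoint Xb.obj.left)} : Set Pb.obj.left)
  have hcl : ∀ w ∈ S, IsClosed ({w} : Set Xb.obj.left) := fun w hw => by
    obtain ⟨P, h1, -, h3⟩ := exists_fixed_section_of_mem hπ hG hpow p q hP j d hjp hjq hdp hdq hQ hw
    exact (section_apply P h1 h3).1
  have hcomp : ∀ w, IsCompPt S w ↔ w ∈ S := fun w => ⟨And.left, fun hw => ⟨hw, fun w' hw' h =>
    ((Set.mem_singleton_iff.1 ((hcl w' hw').closure_eq ▸ specializes_iff_mem_closure.1 h))).symm⟩⟩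
  let e : {P : Spec (CommRingCat.of k) ⟶ Xb.obj.left // P ≫ Xb.obj.hom = 𝟙 _ ∧ P ≫ sm G = P} ≃
      {w : Xb.obj.left // IsCompPt S w} :=
    Equiv.ofBijective
      (fun P => ⟨P.1 (cpt k), (hcomp _).2 (by
        show sm d (P.1 (cpt k)) ∈ closure ({sm j (genericPoint Xb.obj.left)} : Set Pb.obj.left)
        rw [← Scheme.Hom.comp_apply, section_fixed_eq p q hP j d hjp hjq hdp hdq P.1 P.2.2, Scheme.Hom.comp_apply]
        exact specializes_iff_mem_closure.1 ((genericPoint_specializes (P.1 (cpt k))).map (sm j).continuous))⟩)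
      ⟨fun P P' h => Subtype.ext (by
        have h1 := (section_apply P.1 P.2.1 rfl).2
        have h2 := (section_apply P'.1 P'.2.1 (congrArg Subtype.val h).symm).2
        have : IsIso (CommRingCat.ofHom (baseRingHom Xb.obj.hom (P.1 (cpt k)))) :=
          (ConcreteCategory.isIso_iff_bijective _).2 (baseRingHom_bijective Xb (section_apply P.1 P.2.1 rfl).1)
        exact (cancel_epi _).1 (h1.symm.trans h2)),
      fun w => by
        obtain ⟨P, h1, h2, h3⟩ := exists_fixed_section_of_mem hπ hG hpow p q hP j d hjp hjq hdp hdq hQ ((hcomp _).1 w.2)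
        exact ⟨⟨P, h1, h2⟩, Subtype.ext h3⟩⟩
  have : IsLocallyNoetherian Xb.obj.left := LocallyOfFiniteType.isLocallyNoetherian Xb.obj.hom
  have : IsNoetherian Xb.obj.left := {}
  have hSfin : S.Finite := by
    obtain ⟨C, hCf, hCc, hCi, hCu⟩ := NoetherianSpace.exists_finite_set_isClosed_irreducible
      (show IsClosed S from isClosed_closure.preimage (sm d).continuous)
    rw [hCu]
    refine hCf.sUnion fun c hc => ?_
    obtain ⟨η, hη⟩ := QuasiSober.sober (hCi c hc) (hCc c hc)
    have : c = {η} := by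
      rw [← hη.def, (hcl η (hCu ▸ Set.mem_sUnion.2 ⟨c, hc, hη.mem⟩)).closure_eq]
    rw [this]; exact Set.finite_singleton η
  have hfin : Finite {w : Xb.obj.left // IsCompPt S w} := by
    have : Finite S := hSfin
    exact Finite.of_injective (fun w => (⟨w.1, (hcomp _).1 w.2⟩ : S)) fun a b h => Subtype.ext (congrArg Subtype.val h :)
  refine ⟨Finite.of_equiv _ e.symm, ?_⟩
  let : Fintype {w : Xb.obj.left // IsCompPt S w} := Fintype.ofFinite _
  have hmult : ∀ (w : Xb.obj.left) (hw : IsCompPt S w),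
      preimMult (sm d) (sm j (genericPoint Xb.obj.left)) w hw.1 = 1 := fun w hw => by
    obtain ⟨P, h1, h2, h3⟩ := exists_fixed_section_of_mem hπ hG hpow p q hP j d hjp hjq hdp hdq hQ hw.1
    exact preimMult_eq_one hπ hG hpow p q hP j d hjp hjq hdp hdq hQ P h1 h2 h3 hw.1
  rw [T.cl_pull d _ ?_ (Or.inr hmult), finsum_eq_sum_of_fintype, map_sum, Nat.card_congr e, Nat.card_eq_fintype_card]
  · rw [Finset.sum_congr rfl fun w _ => show _ = (1 : K) by
      rw [map_smul, hmult w.1 w.2, tr_cl_closedPoint T Xb (hcl w.1 w.2.1), Nat.cast_one, one_smul]]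
    simp [S]
  · intro w hw
    have hd := dim_prod T p q hP
    rw [(pdim_eq_zero_iff Xb w).2 (hcl w hw.1), pdim_section j p hjp, pdim_genericPoint]
    omega

end Groth.Agent.WeilLib
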