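import Groth.Agent.WeilLib.Geom
import Mathlib.LinearAlgebra.Dual.Lemmas

/-!
# Formal consequences of the axioms of a Weil cohomology theory
-/

universe u v w

open CategoryTheory AlgebraicGeometry TensorProduct

namespace Groth.Agent.WeilLib

variable {k : Type u} [Field k] {P : ObjectProperty (Over (Spec (CommRingCat.of k)))}
variable {K : Type v} [Field K] (T : WeilCoh.TheoryOn.{u, v, w} k P K)

theorem pairing_apply {A : Type w} [Ring A] [Algebra K A] (S S' : Submodule K A) (t : A →ₗ[K] K)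
    (a : S) (b : S') : WeilCoh.pairing K S S' t a b = t ((a : A) * (b : A)) := rfl

theorem one_mem (X : P.FullSubcategory) : (1 : T.H X) ∈ T.gr X 0 := SetLike.one_mem_graded (T.gr X)

theorem mul_mem {X : P.FullSubcategory} {i j l : ℤ} {a b : T.H X} (ha : a ∈ T.gr X i) (hb : b ∈ T.gr X j)
    (h : i + j = l) : a * b ∈ T.gr X l := h ▸ SetLike.mul_mem_graded ha hb

theorem exists_tr_eq_one (X : P.FullSubcategory) :
    ∃ a ∈ T.gr X (2 * (WeilCoh.dim X.obj.left : ℤ)), T.tr X a = 1 := by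
  obtain ⟨a, ha⟩ := (T.tr_bijective X).2 1
  exact ⟨a.1, a.2, ha⟩

theorem eq_zero_of_tr_eq_zero {X : P.FullSubcategory} {a : T.H X} (ha : a ∈ T.gr X (2 * (WeilCoh.dim X.obj.left : ℤ)))
    (h : T.tr X a = 0) : a = 0 :=
  congrArg Subtype.val ((T.tr_bijective X).1 (a₁ := ⟨a, ha⟩) (a₂ := 0) (by simpa using h))

theorem one_ne_zero' (X : P.FullSubcategory) : (1 : T.H X) ≠ 0 := fun h => by
  obtain ⟨a, -, ha⟩ := exists_tr_eq_one T X
  rw [← mul_one a, h, mul_zero, map_zero] at ha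
  exact zero_ne_one ha

/-- Two classes of the same degree with the same pairings agree. -/
theorem eq_of_tr_mul_right {X : P.FullSubcategory} {i j : ℤ} (hij : i + j = 2 * (WeilCoh.dim X.obj.left : ℤ)) {a b : T.H X}
    (ha : a ∈ T.gr X i) (hb : b ∈ T.gr X i) (h : ∀ c ∈ T.gr X j, T.tr X (a * c) = T.tr X (b * c)) :
    a = b := by
  have := T.duality X i j hij
  exact congrArg Subtype.val ((WeilCoh.pairing K (T.gr X i) (T.gr X j) (T.tr X)).toPerfPair.injective
    (a₁ := ⟨a, ha⟩) (a₂ := ⟨b, hb⟩) (LinearMap.ext fun c => h c.1 c.2))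

theorem eq_of_tr_mul_left {X : P.FullSubcategory} {i j : ℤ} (hij : i + j = 2 * (WeilCoh.dim X.obj.left : ℤ)) {a b : T.H X}
    (ha : a ∈ T.gr X i) (hb : b ∈ T.gr X i) (h : ∀ c ∈ T.gr X j, T.tr X (c * a) = T.tr X (c * b)) :
    a = b := by
  refine eq_of_tr_mul_right T hij ha hb fun c hc => ?_
  rw [T.gradedComm X i j a c ha hc, T.gradedComm X i j b c hb hc, map_smul, map_smul, h c hc]

theorem neg_one_pow_even_mul (i : ℕ) (c : ℤ) : (-1 : K) ^ ((2 * c).natAbs * i) = 1 := by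
  rw [Int.natAbs_mul, mul_assoc, pow_mul]
  simp

theorem even_comm {X : P.FullSubcategory} {c i : ℤ} {a b : T.H X} (ha : a ∈ T.gr X (2 * c))
    (hb : b ∈ T.gr X i) : a * b = b * a := by
  rw [T.gradedComm X (2 * c) i a b ha hb, neg_one_pow_even_mul, one_smul]

theorem tr_mul_eq_zero_of_ne {X : P.FullSubcategory} {i j : ℤ} {a b : T.H X} (ha : a ∈ T.gr X i)
    (hb : b ∈ T.gr X j) (h : i + j ≠ 2 * (WeilCoh.dim X.obj.left : ℤ)) : T.tr X (a * b) = 0 :=
  T.tr_vanish X (i + j) _ (SetLike.mul_mem_graded ha hb) h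

/-- Pairings with all classes of a degree determine a class of any degree. -/
theorem eq_zero_of_tr_mul {X : P.FullSubcategory} {i : ℤ} {a : T.H X} (ha : a ∈ T.gr X i)
    (h : ∀ c ∈ T.gr X (2 * (WeilCoh.dim X.obj.left : ℤ) - i), T.tr X (a * c) = 0) : a = 0 :=
  eq_of_tr_mul_right T (j := 2 * (WeilCoh.dim X.obj.left : ℤ) - i) (by omega) ha (zero_mem _) fun c hc => by rw [h c hc, zero_mul, map_zero]

theorem finrank_top (X : P.FullSubcategory) : Module.finrank K (T.gr X (2 * (WeilCoh.dim X.obj.left : ℤ))) = 1 := by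
  rw [(LinearEquiv.ofBijective _ (T.tr_bijective X)).finrank_eq, Module.finrank_self]

theorem finrank_compl (X : P.FullSubcategory) {i j : ℤ} (hij : i + j = 2 * (WeilCoh.dim X.obj.left : ℤ)) :
    Module.finrank K (T.gr X i) = Module.finrank K (T.gr X j) := by
  have := T.duality X i j hij
  rw [((WeilCoh.pairing K (T.gr X i) (T.gr X j) (T.tr X)).toPerfPair).finrank_eq, Subspace.dual_finrank_eq]

theorem finrank_zero (X : P.FullSubcategory) : Module.finrank K (T.gr X 0) = 1 := by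
  rw [finrank_compl T X (zero_add (2 * (WeilCoh.dim X.obj.left : ℤ))), finrank_top]

theorem exists_smul_one {X : P.FullSubcategory} {a : T.H X} (ha : a ∈ T.gr X 0) :
    ∃ c : K, c • (1 : T.H X) = a := by
  obtain ⟨c, hc⟩ := exists_smul_eq_of_finrank_eq_one (finrank_zero T X)
    (x := (⟨1, one_mem T X⟩ : T.gr X 0)) (fun h => one_ne_zero' T X (congrArg Subtype.val h)) ⟨a, ha⟩
  exact ⟨c, congrArg Subtype.val hc⟩

theorem smul_one_bijective (X : P.FullSubcategory) :
    Function.Bijective (fun c : K =>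
      (⟨c • (1 : T.H X), (T.gr X 0).smul_mem c (one_mem T X)⟩ : T.gr X 0)) := by
  refine ⟨fun c c' h => ?_, fun ⟨a, ha⟩ => (exists_smul_one T ha).imp fun c hc => Subtype.ext hc⟩
  have h' : (c - c') • (1 : T.H X) = 0 := by
    rw [sub_smul, sub_eq_zero]; exact congrArg Subtype.val h
  exact sub_eq_zero.1 ((smul_eq_zero.1 h').resolve_right (one_ne_zero' T X))

/-- Every class is a sum of homogeneous classes. -/
theorem homogeneous_induction {X : P.FullSubcategory} {motive : T.H X → Prop} (a : T.H X)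
    (hzero : motive 0) (hadd : ∀ a b, motive a → motive b → motive (a + b))
    (hmem : ∀ i, ∀ a ∈ T.gr X i, motive a) : motive a :=
  Submodule.iSup_induction (T.gr X) (motive := motive)
    (by rw [(T.decomp X).submodule_iSup_eq_top]; trivial) hmem hzero hadd

/-- Künneth classes span. -/
theorem kunneth_induction {X Y Q : P.FullSubcategory} (p : Q ⟶ X) (q : Q ⟶ Y) (h : WeilCoh.IsProd p q)
    {motive : T.H Q → Prop} (a : T.H Q) (hzero : motive 0)
    (hadd : ∀ a b, motive a → motive b → motive (a + b))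
    (hmem : ∀ i j, ∀ x ∈ T.gr X i, ∀ y ∈ T.gr Y j, motive (T.pull p x * T.pull q y)) : motive a := by
  obtain ⟨t, rfl⟩ := (T.kunneth p q h).2 a
  induction t using TensorProduct.induction_on with
  | zero => rw [map_zero]; exact hzero
  | tmul x y =>
    change motive (T.pull p x * T.pull q y)
    refine homogeneous_induction T (motive := fun x => motive (T.pull p x * T.pull q y)) x
      (by rw [map_zero, zero_mul]; exact hzero)
      (fun a b ha hb => by rw [map_add, add_mul]; exact hadd _ _ ha hb) fun i x hx => ?_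
    exact homogeneous_induction T (motive := fun y => motive (T.pull p x * T.pull q y)) y
      (by rw [map_zero, mul_zero]; exact hzero)
      (fun a b ha hb => by rw [map_add, mul_add]; exact hadd _ _ ha hb) fun j y hy => hmem i j x hx y hy
  | add x y hx hy => rw [map_add]; exact hadd _ _ hx hy

theorem pull_mul_mem {X Y Q : P.FullSubcategory} (p : Q ⟶ X) (q : Q ⟶ Y) {i j l : ℤ} {x : T.H X}
    {y : T.H Y} (hx : x ∈ T.gr X i) (hy : y ∈ T.gr Y j) (h : i + j = l) :
    T.pull p x * T.pull q y ∈ T.gr Q l :=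
  mul_mem T (T.pull_mem p i x hx) (T.pull_mem q j y hy) h

include T in
theorem dim_prod {X Y Q : P.FullSubcategory} (p : Q ⟶ X) (q : Q ⟶ Y) (h : WeilCoh.IsProd p q) :
    (WeilCoh.dim Q.obj.left : ℤ) = (WeilCoh.dim X.obj.left : ℤ) + (WeilCoh.dim Y.obj.left : ℤ) := by
  classical
  obtain ⟨a, ha, hta⟩ := exists_tr_eq_one T X
  obtain ⟨b, hb, htb⟩ := exists_tr_eq_one T Y
  have h1 := T.tr_prod p q h a b ha hb
  rw [hta, htb, mul_one] at h1
  by_contra hne
  rw [T.tr_vanish Q _ _ (pull_mul_mem T p q ha hb rfl) (by omega)] at h1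
  exact zero_ne_one h1

/-- The trace of an exterior product. -/
theorem tr_prod_eq {X Y Q : P.FullSubcategory} (p : Q ⟶ X) (q : Q ⟶ Y) (h : WeilCoh.IsProd p q)
    {i j : ℤ} {x : T.H X} {y : T.H Y} (hx : x ∈ T.gr X i) (hy : y ∈ T.gr Y j) :
    T.tr Q (T.pull p x * T.pull q y) = T.tr X x * T.tr Y y := by
  by_cases hi : i = 2 * (WeilCoh.dim X.obj.left : ℤ)
  · by_cases hj : j = 2 * (WeilCoh.dim Y.obj.left : ℤ)
    · exact T.tr_prod p q h x y (hi ▸ hx) (hj ▸ hy)
    · rw [T.tr_vanish Y j y hy hj, mul_zero,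
        T.tr_vanish Q _ _ (pull_mul_mem T p q hx hy rfl) (by have := dim_prod T p q h; omega)]
  · rw [T.tr_vanish X i x hx hi, zero_mul]
    by_cases hs : i + j = 2 * (WeilCoh.dim Q.obj.left : ℤ)
    · have := dim_prod T p q h
      by_cases hlt : 2 * (WeilCoh.dim X.obj.left : ℤ) < i
      · have hx0 : x = 0 := (Submodule.mem_bot K).1 (T.vanish X i (Or.inr hlt) ▸ hx)
        rw [hx0, map_zero, zero_mul, map_zero]
      · have hy0 : y = 0 := (Submodule.mem_bot K).1 (T.vanish Y j (Or.inr (by omega)) ▸ hy)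
        rw [hy0, map_zero, mul_zero, map_zero]
    · exact T.tr_vanish Q _ _ (pull_mul_mem T p q hx hy rfl) hs

theorem pushFunctional_apply {X Y : P.FullSubcategory} (f : X ⟶ Y) (i : ℤ) (a : T.gr X i)
    (b : T.gr Y (2 * (WeilCoh.dim X.obj.left : ℤ) - i)) :
    T.pushFunctional f i a b = T.tr X ((a : T.H X) * T.pull f (b : T.H Y)) := rfl

theorem tr_push {X Y : P.FullSubcategory} (f : X ⟶ Y) (i : ℤ) (a : T.gr X i) {b : T.H Y}
    (hb : b ∈ T.gr Y (2 * (WeilCoh.dim X.obj.left : ℤ) - i)) :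
    T.tr Y ((T.push f i a : T.H Y) * b) = T.tr X ((a : T.H X) * T.pull f b) := by
  have := T.duality Y (i + 2 * (WeilCoh.dim Y.obj.left : ℤ) - 2 * (WeilCoh.dim X.obj.left : ℤ)) (2 * (WeilCoh.dim X.obj.left : ℤ) - i) (by omega)
  have h := LinearEquiv.apply_symm_apply
    (WeilCoh.pairing K (T.gr Y (i + 2 * (WeilCoh.dim Y.obj.left : ℤ) - 2 * (WeilCoh.dim X.obj.left : ℤ))) (T.gr Y (2 * (WeilCoh.dim X.obj.left : ℤ) - i)) (T.tr Y)).toPerfPair
    (T.pushFunctional f i a)
  exact (LinearMap.congr_fun h ⟨b, hb⟩ :)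

theorem push_mem {X Y : P.FullSubcategory} (f : X ⟶ Y) (i : ℤ) (a : T.gr X i) {l : ℤ}
    (hl : i + 2 * (WeilCoh.dim Y.obj.left : ℤ) - 2 * (WeilCoh.dim X.obj.left : ℤ) = l) : (T.push f i a : T.H Y) ∈ T.gr Y l := hl ▸ (T.push f i a).2

theorem push_eq {X Y : P.FullSubcategory} (f : X ⟶ Y) (i : ℤ) (a : T.gr X i) {c : T.H Y}
    (hc : c ∈ T.gr Y (i + 2 * (WeilCoh.dim Y.obj.left : ℤ) - 2 * (WeilCoh.dim X.obj.left : ℤ)))
    (h : ∀ b ∈ T.gr Y (2 * (WeilCoh.dim X.obj.left : ℤ) - i), T.tr X ((a : T.H X) * T.pull f b) = T.tr Y (c * b)) :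
    (T.push f i a : T.H Y) = c :=
  eq_of_tr_mul_right T (j := 2 * (WeilCoh.dim X.obj.left : ℤ) - i) (by omega) (T.push f i a).2 hc fun b hb => by
    rw [tr_push T f i a hb, h b hb]

theorem pull_comp_apply {X Y Z : P.FullSubcategory} (f : X ⟶ Y) (g : Y ⟶ Z) (a : T.H Z) :
    T.pull (f ≫ g) a = T.pull f (T.pull g a) := by rw [T.pull_comp]; rfl

theorem pull_id_apply {X : P.FullSubcategory} (a : T.H X) : T.pull (𝟙 X) a = a := by rw [T.pull_id]; rfl

theorem push_mul_pull {X Y : P.FullSubcategory} (f : X ⟶ Y) (i j : ℤ) (a : T.gr X i) (c : T.gr Y j) :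
    (T.push f (i + j)
      ⟨(a : T.H X) * T.pull f c, SetLike.mul_mem_graded a.2 (T.pull_mem f j c c.2)⟩ : T.H Y) =
      (T.push f i a : T.H Y) * c := by
  refine push_eq T f (i + j) _ (mul_mem T (T.push f i a).2 c.2 (by omega)) fun b hb => ?_
  change T.tr X ((a : T.H X) * T.pull f c * T.pull f b) = _
  rw [mul_assoc, ← map_mul, mul_assoc, tr_push T f i a (mul_mem T c.2 hb (by omega))]

theorem push_comp {X Y Z : P.FullSubcategory} (f : X ⟶ Y) (g : Y ⟶ Z) (i : ℤ) (a : T.gr X i) :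
    (T.push (f ≫ g) i a : T.H Z) =
      (T.push g (i + 2 * (WeilCoh.dim Y.obj.left : ℤ) - 2 * (WeilCoh.dim X.obj.left : ℤ)) (T.push f i a) : T.H Z) := by
  refine push_eq T _ i a (push_mem T g _ _ (by omega)) fun b hb => ?_
  rw [pull_comp_apply, tr_push T g _ _ (by convert hb using 2; omega),
    tr_push T f i a (T.pull_mem g _ b hb)]

end Groth.Agent.WeilLib
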